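import Cfsg.Agent.Lib.QuadPair.Opposite
import Cfsg.Agent.Lib.Coprime.Basic
import Mathlib.Algebra.CharP.Lemmas

/-!
Rank one identities for `a y a = a`, `y a y = y`; the partners of a minimal element are transitive
under the group stabilising the chain `0 ≤ im a ≤ ker a ≤ M`.
-/

set_option autoImplicit false
set_option linter.unusedSectionVars false

namespace Cfsg.Agent.EquivariantZJ

open Cfsg Cfsg.Agent.QuadPair

section ring

variable {k : Type*} [Field k] {M : Type*} [AddCommGroup M] [Module k M]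

/-- `a` and `y` are inverse square-zero elements. -/
structure Dual (a y : Module.End k M) : Prop where
  sqL : a * a = 0
  sqR : y * y = 0
  left : a * y * a = a
  right : y * a * y = y

/-- The swapping element of a dual pair. -/
def nEnd (a y : Module.End k M) (t : k) : Module.End k M :=
  1 - a * y - y * a + t • a - t⁻¹ • y

/-- The torus element of a dual pair. -/
def hEnd (a y : Module.End k M) (t : k) : Module.End k M :=
  1 - a * y - y * a + t • (a * y) + t⁻¹ • (y * a)

namespace Dual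

variable {a y : Module.End k M} (D : Dual a y)
include D

theorem symm : Dual y a := ⟨D.sqR, D.sqL, D.right, D.left⟩

theorem sqL' (x : Module.End k M) : a * (a * x) = 0 := by rw [← mul_assoc, D.sqL, zero_mul]
theorem sqR' (x : Module.End k M) : y * (y * x) = 0 := by rw [← mul_assoc, D.sqR, zero_mul]
theorem left0 : a * (y * a) = a := by rw [← mul_assoc, D.left]
theorem right0 : y * (a * y) = y := by rw [← mul_assoc, D.right]
theorem left' (x : Module.End k M) : a * (y * (a * x)) = a * x := by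
  rw [← mul_assoc, ← mul_assoc, D.left]
theorem right' (x : Module.End k M) : y * (a * (y * x)) = y * x := by
  rw [← mul_assoc, ← mul_assoc, D.right]

theorem word_n {t : k} (ht : t ≠ 0) :
    (1 + t • a) * (1 - t⁻¹ • y) * (1 + t • a) = nEnd a y t := by
  simp only [nEnd, mul_add, add_mul, mul_sub, sub_mul, mul_one, one_mul, smul_mul_assoc,
    mul_smul_comm, smul_smul, mul_assoc, D.sqL, D.left0, smul_zero, inv_mul_cancel₀ ht,
    mul_inv_cancel₀ ht, one_mul, mul_one, one_smul]
  match_scalars <;> field_simp <;> ring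

theorem word_n' {t : k} (ht : t ≠ 0) :
    (1 - t⁻¹ • y) * (1 + t • a) * (1 - t⁻¹ • y) = nEnd a y t := by
  simp only [nEnd, mul_add, add_mul, mul_sub, sub_mul, mul_one, one_mul, smul_mul_assoc,
    mul_smul_comm, smul_smul, mul_assoc, D.sqR, D.right0, smul_zero, inv_mul_cancel₀ ht,
    mul_inv_cancel₀ ht, one_mul, mul_one, one_smul]
  match_scalars <;> field_simp <;> ring

theorem n_mul_n (t : k) : nEnd a y t * nEnd a y (-1) = hEnd a y t := by
  simp only [nEnd, hEnd, mul_add, add_mul, mul_sub, sub_mul, mul_one, one_mul, smul_mul_assoc,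
    mul_smul_comm, smul_smul, mul_assoc, D.sqL, D.sqR, D.sqL', D.sqR', D.left0, D.right0,
    D.left', D.right', smul_zero, mul_zero, sub_zero, add_zero, zero_add, zero_sub, inv_neg,
    inv_one, neg_smul, one_smul, mul_neg, neg_mul, sub_neg_eq_add]
  abel

theorem h_mul_h (s t : k) : hEnd a y s * hEnd a y t = hEnd a y (s * t) := by
  simp only [hEnd, mul_add, add_mul, mul_sub, sub_mul, mul_one, one_mul, smul_mul_assoc,
    mul_smul_comm, smul_smul, mul_assoc, D.sqL, D.sqR, D.sqL', D.sqR', D.left0, D.right0,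
    D.left', D.right', smul_zero, mul_zero, sub_zero, add_zero, zero_add, mul_inv]
  module

theorem h_one : hEnd a y 1 = 1 := by
  simp [hEnd]
  abel

theorem h_mul_left (t : k) : hEnd a y t * a = t • a := by
  simp only [hEnd, add_mul, sub_mul, one_mul, smul_mul_assoc, mul_assoc, D.sqL, D.left0,
    mul_zero, smul_zero, sub_zero, add_zero, sub_self, zero_add]

theorem left_mul_h (t : k) : a * hEnd a y t = t⁻¹ • a := by
  simp only [hEnd, mul_add, mul_sub, mul_one, mul_smul_comm, D.sqL', D.left0,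
    smul_zero, sub_zero, add_zero, sub_self, zero_add]

theorem n_mul_right (t : k) : nEnd a y t * y = t • (a * y) := by
  simp only [nEnd, add_mul, sub_mul, one_mul, smul_mul_assoc, mul_assoc, D.sqR, D.right0,
    mul_zero, smul_zero, sub_zero, sub_self, zero_add]

theorem n_mul_left (t : k) : nEnd a y t * a = -(t⁻¹ • (y * a)) := by
  simp only [nEnd, add_mul, sub_mul, one_mul, smul_mul_assoc, mul_assoc, D.sqL, D.left0,
    mul_zero, smul_zero, sub_zero, sub_self, zero_add, add_zero, zero_sub]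

/-- A torus element determines the dual. -/
theorem eq_of_hEnd {y' : Module.End k M} (D' : Dual a y') {t : k} (ht : t ≠ 0) (ht1 : t ≠ 1)
    (ht2 : t * t ≠ 1) (h : hEnd a y' t = hEnd a y t) : y' = y := by
  have key : ∀ z : Module.End k M, Dual a z →
      (hEnd a z t - 1) * (hEnd a z t - t⁻¹ • (1 : Module.End k M)) =
        ((t - 1) * (t - t⁻¹)) • (a * z) := by
    intro z Dz
    simp only [hEnd, sub_eq_add_neg, add_mul, mul_add, neg_mul, mul_neg, mul_one, one_mul,
      smul_mul_assoc, mul_smul_comm, smul_smul, mul_assoc, Dz.sqL', Dz.sqR', Dz.left',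
      Dz.right', smul_zero, mul_zero, neg_zero, add_zero, zero_add, add_smul, neg_smul,
      one_smul, smul_add, smul_neg, neg_neg]
    module
  have hne : (t - 1) * (t - t⁻¹) ≠ 0 := by
    refine mul_ne_zero (sub_ne_zero.2 ht1) (sub_ne_zero.2 fun e => ht2 ?_)
    nth_rw 2 [e]
    exact mul_inv_cancel₀ ht
  have he : a * y' = a * y := by
    have := key y' D'
    rw [h, key y D] at this
    exact (smul_right_injective _ hne this).symm
  have hf : y' * a = y * a := by
    have h1 := h
    rw [hEnd, hEnd, he] at h1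
    have h2 : (t⁻¹ - 1) • (y' * a) = (t⁻¹ - 1) • (y * a) := by
      rw [sub_smul, sub_smul, one_smul, one_smul]
      linear_combination (norm := module) h1
    exact smul_right_injective _ (sub_ne_zero.2 fun e => ht1 (inv_eq_one.1 e)) h2
  calc y' = y' * a * y' := D'.right.symm
    _ = y * a * y := by rw [hf, mul_assoc, he, ← mul_assoc]
    _ = y := D.right

end Dual

end ring

section group

variable {p : ℕ} [Fact p.Prime] {M : Type*} [AddCommGroup M] [Module (ZMod p) M]
  {G : Subgroup (LinearMap.GeneralLinearGroup (ZMod p) M)}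

local notation "GLM" => LinearMap.GeneralLinearGroup (ZMod p) M
local notation "EndM" => Module.End (ZMod p) M

theorem finite_gl [Finite M] : Finite (LinearMap.GeneralLinearGroup (ZMod p) M) := by
  have : Finite (Module.End (ZMod p) M) := Finite.of_injective _ DFunLike.coe_injective
  exact Finite.of_injective (fun g : GLM => (g : EndM)) (fun _ _ h => Units.ext h)

theorem exists_n {a y : EndM} (D : Dual a y) (ha : Fam G a) (hy : Fam G y) {t : ZMod p}
    (ht : t ≠ 0) : ∃ g ∈ G, (g : EndM) = nEnd a y t := by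
  obtain ⟨u, hu, hue⟩ := ha t
  obtain ⟨l, hl, hle⟩ := hy (-t⁻¹)
  refine ⟨u * l * u, G.mul_mem (G.mul_mem hu hl) hu, ?_⟩
  rw [Units.val_mul, Units.val_mul, hue, hle, ← D.word_n ht, neg_smul, sub_eq_add_neg (1 : EndM)]

theorem exists_h {a y : EndM} (D : Dual a y) (ha : Fam G a) (hy : Fam G y) {t : ZMod p}
    (ht : t ≠ 0) : ∃ g ∈ G, (g : EndM) = hEnd a y t := by
  obtain ⟨g, hg, hge⟩ := exists_n D ha hy ht
  obtain ⟨g', hg', hge'⟩ := exists_n D ha hy (neg_ne_zero.2 (one_ne_zero (α := ZMod p)))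
  exact ⟨g * g', G.mul_mem hg hg', by rw [Units.val_mul, hge, hge', D.n_mul_n]⟩

/-- The stabiliser in `G` of the chain `0 ≤ im a ≤ ker a ≤ M`. -/
def chainStab (G : Subgroup (LinearMap.GeneralLinearGroup (ZMod p) M)) (a : Module.End (ZMod p) M) :
    Subgroup (LinearMap.GeneralLinearGroup (ZMod p) M) where
  carrier := {g | g ∈ G ∧ a * ((g : EndM) - 1) = 0 ∧ ((g : EndM) - 1) * a = 0 ∧
    ∀ m, a m = 0 → ((g : EndM) - 1) m ∈ LinearMap.range a}
  one_mem' := ⟨G.one_mem, by simp, by simp, fun m _ => by simp⟩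
  mul_mem' := by
    rintro g h ⟨hg, g1, g2, g3⟩ ⟨hh, h1, h2, h3⟩
    have e : ((g * h : GLM) : EndM) - 1 = ((g : EndM) - 1) * ((h : EndM) - 1) +
        ((g : EndM) - 1) + ((h : EndM) - 1) := by
      rw [Units.val_mul]; noncomm_ring
    refine ⟨G.mul_mem hg hh, ?_, ?_, fun m hm => ?_⟩
    · rw [e, mul_add, mul_add, ← mul_assoc, g1, h1, zero_mul, add_zero, add_zero]
    · rw [e, add_mul, add_mul, mul_assoc, g2, h2, mul_zero, add_zero, add_zero]
    · obtain ⟨n, hn⟩ := h3 m hm
      rw [e, LinearMap.add_apply, LinearMap.add_apply, Module.End.mul_apply, ← hn,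
        ← Module.End.mul_apply, g2, LinearMap.zero_apply, zero_add]
      exact add_mem (g3 m hm) ⟨n, rfl⟩
  inv_mem' := by
    rintro g ⟨hg, g1, g2, g3⟩
    set gi : EndM := ((g⁻¹ : GLM) : EndM) with hgi
    have e1 : gi - 1 = -(gi * ((g : EndM) - 1)) := by
      rw [mul_sub, mul_one, hgi, Units.inv_mul, neg_sub]
    have e2 : gi - 1 = -(((g : EndM) - 1) * gi) := by
      rw [sub_mul, one_mul, hgi, Units.mul_inv, neg_sub]
    refine ⟨G.inv_mem hg, ?_, ?_, fun m hm => ?_⟩
    · show a * (gi - 1) = 0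
      rw [e2, mul_neg, ← mul_assoc, g1, zero_mul, neg_zero]
    · show (gi - 1) * a = 0
      rw [e1, neg_mul, mul_assoc, g2, mul_zero, neg_zero]
    · show (gi - 1) m ∈ _
      obtain ⟨n, hn⟩ := g3 m hm
      have e3 : gi * a = a := by
        have : (gi - 1) * a = 0 := by rw [e1, neg_mul, mul_assoc, g2, mul_zero, neg_zero]
        rwa [sub_mul, one_mul, sub_eq_zero] at this
      rw [e1, LinearMap.neg_apply, Module.End.mul_apply, ← hn, ← Module.End.mul_apply, e3]
      exact neg_mem ⟨n, rfl⟩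

theorem mem_chainStab_iff {a : EndM} {g : GLM} : g ∈ chainStab G a ↔
    g ∈ G ∧ a * ((g : EndM) - 1) = 0 ∧ ((g : EndM) - 1) * a = 0 ∧
      ∀ m, a m = 0 → ((g : EndM) - 1) m ∈ LinearMap.range a := Iff.rfl

theorem isPGroup_chainStab (hp : 3 ≤ p) (a : EndM) : IsPGroup p (chainStab G a) := by
  rintro ⟨g, hg, g1, g2, g3⟩
  refine ⟨1, Subtype.ext (Units.ext ?_)⟩
  set n := (g : EndM) - 1 with hn
  have h3 : n ^ 3 = 0 := LinearMap.ext fun m => by
    show n (n (n m)) = 0
    obtain ⟨w, hw⟩ := g3 (n m) (DFunLike.congr_fun g1 m)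
    rw [← hw]
    exact DFunLike.congr_fun g2 w
  by_cases hM : Nontrivial M
  · have : CharP EndM p := charP_of_injective_algebraMap (algebraMap (ZMod p) EndM).injective p
    have h4 := sub_pow_char_of_commute p (Commute.one_right (g : EndM))
    rw [← hn, pow_eq_zero_of_le hp h3, one_pow] at h4
    simpa [pow_one] using sub_eq_zero.1 h4.symm
  · have : Subsingleton M := not_nontrivial_iff_subsingleton.1 hM
    exact LinearMap.ext fun m => Subsingleton.elim _ _

theorem cj_of_mem_chainStab {a : EndM} {g : GLM} (hg : g ∈ chainStab G a) : cj g a = a := by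
  obtain ⟨-, g1, g2, -⟩ := hg
  rw [mul_sub, mul_one, sub_eq_zero] at g1
  rw [sub_mul, one_mul, sub_eq_zero] at g2
  rw [cj, g2]
  conv_lhs => rw [← g1]
  rw [mul_assoc, Units.mul_inv, mul_one]

/-- Two partners of `a` are conjugate under the chain stabiliser. -/
theorem exists_chainStab_cj [Finite M] (hp : 5 ≤ p) {a y y' : EndM} (D : Dual a y)
    (D' : Dual a y') (ha : Fam G a) (hy : Fam G y) (hy' : Fam G y') :
    ∃ g ∈ chainStab G a, cj g y' = y := by
  haveI : Finite GLM := finite_gl
  have h2 : (2 : ZMod p) ≠ 0 := by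
    intro e
    have e' : ((2 : ℕ) : ZMod p) = 0 := by exact_mod_cast e
    rw [ZMod.natCast_eq_zero_iff] at e'
    exact absurd (Nat.le_of_dvd (by norm_num) e') (by omega)
  have h21 : (2 : ZMod p) ≠ 1 := by
    intro e
    exact one_ne_zero (α := ZMod p) (by linear_combination e)
  have h22 : (2 : ZMod p) * 2 ≠ 1 := by
    intro e
    have e' : ((3 : ℕ) : ZMod p) = 0 := by push_cast; linear_combination e
    rw [ZMod.natCast_eq_zero_iff] at e'
    exact absurd (Nat.le_of_dvd (by norm_num) e') (by omega)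
  obtain ⟨h, hhG, hhe⟩ := exists_h D ha hy h2
  obtain ⟨h', hhG', hhe'⟩ := exists_h D' ha hy' h2
  have hpow : ∀ {z : EndM}, Dual a z → ∀ {g : GLM}, (g : EndM) = hEnd a z 2 →
      ∀ n : ℕ, ((g ^ n : GLM) : EndM) = hEnd a z (2 ^ n) := by
    intro z Dz g hg n
    induction n with
    | zero => rw [pow_zero, pow_zero, Units.val_one, Dz.h_one]
    | succ n ih => rw [pow_succ, Units.val_mul, ih, hg, Dz.h_mul_h, ← pow_succ]
  by_cases ha0 : a = 0
  · refine ⟨1, one_mem _, ?_⟩
    rw [cj_one, ← D.right, ← D'.right, ha0]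
    simp
  have hone : ∀ {z : EndM}, Dual a z → ∀ {g : GLM}, (g : EndM) = hEnd a z 2 →
      ∀ n : ℕ, g ^ n = 1 ↔ (2 : ZMod p) ^ n = 1 := by
    intro z Dz g hg n
    constructor
    · intro e
      have h1 := Dz.h_mul_left (2 ^ n : ZMod p)
      rw [← hpow Dz hg n, e, Units.val_one, one_mul] at h1
      have h3 : ((2 : ZMod p) ^ n - 1) • a = 0 := by rw [sub_smul, one_smul, ← h1, sub_self]
      exact sub_eq_zero.1 ((smul_eq_zero.1 h3).resolve_right ha0)
    · intro e
      refine Units.ext ?_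
      rw [hpow Dz hg n, e, Dz.h_one, Units.val_one]
  have hord : orderOf h' = orderOf h :=
    orderOf_eq_orderOf_iff.2 fun n => (hone D' hhe' n).trans (hone D hhe n).symm
  have hdvd : orderOf h ∣ p - 1 :=
    orderOf_dvd_of_pow_eq_one ((hone D hhe _).2 (ZMod.pow_card_sub_one_eq_one h2))
  set U := chainStab G a with hU
  -- `h' h⁻¹` stabilises the chain
  have hr : h' * h⁻¹ ∈ U := by
    have hinv : ((h⁻¹ : GLM) : EndM) = hEnd a y (2 : ZMod p)⁻¹ := by
      apply (Units.isUnit h).mul_left_cancel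
      rw [Units.mul_inv, hhe, D.h_mul_h, mul_inv_cancel₀ h2, D.h_one]
    refine ⟨G.mul_mem hhG' (G.inv_mem hhG), ?_, ?_, fun m hm => ?_⟩ <;>
      rw [Units.val_mul, hhe', hinv]
    · rw [mul_sub, mul_one, ← mul_assoc, D'.left_mul_h, smul_mul_assoc, D.left_mul_h,
        smul_smul, inv_inv, inv_mul_cancel₀ h2, one_smul, sub_self]
    · rw [sub_mul, one_mul, mul_assoc, D.h_mul_left, mul_smul_comm, D'.h_mul_left, smul_smul,
        inv_mul_cancel₀ h2, one_smul, sub_self]
    · have key : ∀ {z : EndM}, Dual a z → ∀ (t : ZMod p) (w : M), a w = 0 →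
          hEnd a z t w - w ∈ LinearMap.range a := by
        intro z Dz t w hw
        refine ⟨(t - 1) • z w, ?_⟩
        simp only [hEnd, LinearMap.add_apply, LinearMap.sub_apply, Module.End.one_apply,
          LinearMap.smul_apply, Module.End.mul_apply, hw, map_zero, smul_zero, map_smul]
        module
      have h1 := key D (2 : ZMod p)⁻¹ m hm
      have h1' : a (hEnd a y (2 : ZMod p)⁻¹ m) = 0 := by
        rw [← Module.End.mul_apply, D.left_mul_h, LinearMap.smul_apply, hm, smul_zero]
      have h3 := key D' 2 _ h1'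
      have := add_mem h3 h1
      simp only [LinearMap.sub_apply, Module.End.mul_apply, Module.End.one_apply]
      rwa [sub_add_sub_cancel] at this
  have hnorm : ∀ {g : GLM}, g ∈ G → cj g a ∈ Submodule.span (ZMod p) {a} →
      cj g⁻¹ a ∈ Submodule.span (ZMod p) {a} → ∀ u ∈ U, g * u * g⁻¹ ∈ U := by
    intro g hg h1 h1' u hu
    obtain ⟨c, hc⟩ := Submodule.mem_span_singleton.1 h1'
    obtain ⟨d, hd⟩ := Submodule.mem_span_singleton.1 h1
    obtain ⟨huG, u1, u2, u3⟩ := hu
    refine ⟨G.mul_mem (G.mul_mem hg huG) (G.inv_mem hg), ?_, ?_, fun m hm => ?_⟩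
    · rw [← cj_sub_one]
      refine cj_injective g⁻¹ ?_
      rw [cj_mul, cj_inv_cj, ← hc, smul_mul_assoc, u1, smul_zero, cj_zero]
    · rw [← cj_sub_one]
      refine cj_injective g⁻¹ ?_
      rw [cj_mul, cj_inv_cj, ← hc, mul_smul_comm, u2, smul_zero, cj_zero]
    · rw [← cj_sub_one]
      set m' := ((g⁻¹ : GLM) : EndM) m with hm'
      have hm0 : a m' = 0 := by
        have : (cj g⁻¹ a) m' = 0 := by
          simp only [cj, inv_inv, hm', Module.End.mul_apply]
          rw [← Module.End.mul_apply (g : EndM), Units.mul_inv, Module.End.one_apply, hm, map_zero]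
        rw [← hc, LinearMap.smul_apply] at this
        rcases smul_eq_zero.1 this with e | e
        · exfalso
          refine ha0 (cj_injective g⁻¹ ?_)
          rw [← hc, e, zero_smul, cj_zero]
        · exact e
      obtain ⟨w, hw⟩ := u3 m' hm0
      show cj g ((u : EndM) - 1) m ∈ _
      rw [cj, Module.End.mul_apply, Module.End.mul_apply, ← hm', ← hw]
      have e : (g : EndM) (a w) = cj g a ((g : EndM) w) := by
        simp only [cj, Module.End.mul_apply]
        rw [← Module.End.mul_apply ((g⁻¹ : GLM) : EndM), Units.inv_mul, Module.End.one_apply]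
      rw [e, ← hd]
      exact ⟨d • (g : EndM) w, by rw [map_smul]; rfl⟩
  have hspan : ∀ {g : GLM}, g ∈ Subgroup.zpowers h' → cj g a ∈ Submodule.span (ZMod p) {a} := by
    intro g hg
    obtain ⟨n, rfl⟩ := (Submonoid.mem_powers_iff _ _).1 (mem_powers_iff_mem_zpowers.2 hg)
    have e1 : ((h' ^ n : GLM) : EndM) * a = (2 ^ n : ZMod p) • a := by
      rw [hpow D' hhe', D'.h_mul_left]
    have e2 : a * (((h' ^ n)⁻¹ : GLM) : EndM) = (2 ^ n : ZMod p) • a := by
      have h1 := D'.left_mul_h (2 ^ n : ZMod p)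
      rw [← hpow D' hhe'] at h1
      have h3 := congrArg (fun x => x * (((h' ^ n)⁻¹ : GLM) : EndM)) h1
      simp only [mul_assoc, Units.mul_inv, mul_one, smul_mul_assoc] at h3
      conv_rhs => rw [h3, smul_smul, mul_inv_cancel₀ (pow_ne_zero n h2), one_smul]
    refine Submodule.mem_span_singleton.2 ⟨2 ^ n * 2 ^ n, ?_⟩
    rw [cj, e1, smul_mul_assoc, e2, smul_smul]
  have hnormU : Subgroup.zpowers h' ≤ Subgroup.normalizer (U : Set GLM) := by
    intro g hg
    have hgG : g ∈ G := (Subgroup.zpowers_le.2 hhG') hg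
    rw [Subgroup.mem_normalizer_iff]
    refine fun u => ⟨hnorm hgG (hspan hg) (hspan (inv_mem hg)) u, fun hu => ?_⟩
    have := hnorm (G.inv_mem hgG) (hspan (inv_mem hg))
      (by rw [inv_inv]; exact hspan hg) _ hu
    simpa [mul_assoc] using this
  have hle : Subgroup.zpowers h ≤ Subgroup.zpowers h' ⊔ U := by
    refine Subgroup.zpowers_le.2 ?_
    have e : h = (h' * h⁻¹)⁻¹ * h' := by group
    rw [e]
    exact mul_mem (Subgroup.mem_sup_right (inv_mem hr))
      (Subgroup.mem_sup_left (Subgroup.mem_zpowers _))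
  have hUp := isPGroup_chainStab (G := G) (by omega : 3 ≤ p) a
  obtain ⟨n, hn⟩ := hUp.exists_card_eq
  have hcop : ∀ j, j ∣ p - 1 → j.Coprime (p ^ n) := fun j hj => by
    refine Nat.Coprime.pow_right _ (Nat.Coprime.coprime_dvd_left hj ?_)
    rw [Nat.coprime_comm, (Fact.out : p.Prime).coprime_iff_not_dvd]
    intro hd
    have := Nat.le_of_dvd (by omega) hd
    omega
  obtain ⟨u, hu, huh⟩ := Coprime.exists_conj_eq_of_le_sup hnormU hle
    (by rw [Nat.card_zpowers, Nat.card_zpowers, hord])
    (by rw [Nat.card_zpowers, hn]; exact hcop _ (hord ▸ hdvd))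
    (Or.inl (by have := hUp.isNilpotent; infer_instance))
  refine ⟨u, hu, ?_⟩
  have hmem : u * h' * u⁻¹ ∈ Subgroup.zpowers h := by
    rw [← huh]
    exact ⟨h', Subgroup.mem_zpowers _, rfl⟩
  -- the conjugate is `h` itself
  have hconj : u * h' * u⁻¹ = h := by
    have h1 : u * h' * u⁻¹ * h⁻¹ ∈ U := by
      rw [show u * h' * u⁻¹ * h⁻¹ = u * (h' * u⁻¹ * h'⁻¹) * (h' * h⁻¹) by group]
      exact mul_mem (mul_mem hu ((Subgroup.mem_normalizer_iff.1 (hnormU (Subgroup.mem_zpowers _))
        u⁻¹).1 (inv_mem hu))) hr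
    set r := u * h' * u⁻¹ * h⁻¹ with hrdef
    have h3 : r ∈ Subgroup.zpowers h := mul_mem hmem (inv_mem (Subgroup.mem_zpowers _))
    have h4 : orderOf r ∣ p ^ n := hn ▸ Subgroup.orderOf_dvd_natCard _ h1
    have h5 : orderOf r ∣ p - 1 := (Subgroup.orderOf_dvd_natCard _ h3).trans
      (by rw [Nat.card_zpowers]; exact hdvd)
    have h6 : orderOf r = 1 := Nat.eq_one_of_dvd_coprimes (hcop _ dvd_rfl) h5 h4
    exact mul_inv_eq_one.1 (orderOf_eq_one_iff.1 h6)
  have hua := cj_of_mem_chainStab hu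
  have Du : Dual a (cj u y') := ⟨D.sqL, by rw [← cj_mul, D'.sqR, cj_zero],
    by conv_rhs => rw [← hua, ← D'.left]
       rw [cj_mul, cj_mul, hua],
    by conv_rhs => rw [← D'.right]
       rw [cj_mul, cj_mul, hua]⟩
  refine D.eq_of_hEnd Du h2 h21 h22 ?_
  rw [← hhe, ← hconj, Units.val_mul, Units.val_mul, hhe']
  show _ = cj u (hEnd a y' 2)
  rw [hEnd, hEnd]
  simp only [← cjLin_apply, map_add, map_sub, map_smul]
  simp only [cjLin_apply, cj_mul, hua]
  simp [cj]

end group

end Cfsg.Agent.EquivariantZJ
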