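import Cfsg.Agent.Lib.EquivariantZJ.Squares
import Cfsg.Agent.Lib.EquivariantZJ.Torus
import Cfsg.Agent.Lib.QuadPair.Components
import Cfsg.Agent.Lib.QuadPair.SL2Finite

/-!
A coprime solvable group permuting the root subgroups of one component fixes a dual pair in it.

The partners of a minimal `a` are one orbit of the chain stabiliser; the normaliser of `1 + vsp a`
has orbits of length at least half of `vsp a # ` there, as `c ↦ c y c` is at most two-to-one, so an
automorphism group of odd order stabilises each of them.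
-/

set_option autoImplicit false
set_option linter.unusedSectionVars false

namespace Cfsg.Agent.EquivariantZJ

open Cfsg Cfsg.Agent.QuadPair

section dual

variable {k : Type*} [Field k] {M : Type*} [AddCommGroup M] [Module k M]
variable {a y : Module.End k M}

theorem Dual.n_cj_self (D : Dual a y) : nEnd a y 1 * a * nEnd a y (-1) = -y := by
  rw [D.n_mul_left, inv_one, one_smul, neg_mul]
  simp only [nEnd, mul_add, mul_sub, mul_one, mul_smul_comm, mul_assoc, D.sqL, D.sqL', D.left0,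
    D.right0, D.left', mul_neg, mul_zero, smul_zero, inv_neg, inv_one, neg_smul, one_smul]
  abel

theorem Dual.n_cj_other (D : Dual a y) {z : Module.End k M} (h1 : y * z = 0) (h2 : z * y = 0)
    (h3 : y * (a * z) = z) (h4 : z * (a * y) = z) :
    nEnd a y 1 * z * nEnd a y (-1) = -(a * z * a) := by
  have e : nEnd a y 1 * z = a * z := by
    simp only [nEnd, inv_one, one_smul, add_mul, sub_mul, one_mul, mul_assoc, h1, h3, mul_zero]
    abel
  have e2 : z * nEnd a y (-1) = -(z * a) := by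
    simp only [nEnd, inv_neg, inv_one, neg_smul, one_smul, mul_add, mul_sub, mul_one, mul_neg,
      ← mul_assoc, h2, zero_mul]
    rw [mul_assoc, h4]
    abel
  rw [e, mul_assoc, e2, mul_neg, ← mul_assoc]

end dual

section basics

variable {p : ℕ} [Fact p.Prime] {M : Type*} [AddCommGroup M] [Module (ZMod p) M]
variable {G H : Subgroup (LinearMap.GeneralLinearGroup (ZMod p) M)}

local notation "GLM" => LinearMap.GeneralLinearGroup (ZMod p) M
local notation "EndM" => Module.End (ZMod p) M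

theorem coe_onePlus_pow (y : EndM) (h : y * y = 0) (n : ℕ) :
    ((onePlus y h ^ n : GLM) : EndM) = 1 + (n : ZMod p) • y := by
  induction n with
  | zero => simp
  | succ n ih =>
    rw [pow_succ, Units.val_mul, ih, coe_onePlus, mul_add, mul_one, add_mul, one_mul,
      smul_mul_assoc, h, smul_zero, add_zero, Nat.cast_succ, add_smul, one_smul, add_assoc]

theorem pow_prime_eq_one (y : EndM) (h : y * y = 0) : (onePlus y h : GLM) ^ p = 1 := by
  refine Units.ext ?_
  rw [coe_onePlus_pow, ZMod.natCast_self, zero_smul, add_zero, Units.val_one]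

/-- Over the prime field families are automatic. -/
theorem fam_of_mem {y : EndM} (h : y * y = 0) (hy : Mem G y) : Fam G y := fun c => by
  refine ⟨onePlus y h ^ c.val, G.pow_mem (hy.onePlus_mem h) _, ?_⟩
  rw [coe_onePlus_pow, ZMod.natCast_rightInverse]

/-- `H` contains the elements of order `p` of `G`. -/
def PElts (G H : Subgroup (LinearMap.GeneralLinearGroup (ZMod p) M)) : Prop :=
  ∀ g ∈ G, g ^ p = 1 → g ∈ H

theorem fam_of_pElts (hP : PElts G H) {y : EndM} (h : y * y = 0) (hy : Fam G y) : Fam H y :=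
  fam_of_mem h ⟨onePlus y h, hP _ (hy.mem.onePlus_mem h) (pow_prime_eq_one y h), rfl⟩

theorem exists_isMin [Finite M] {x : EndM} (hx : x * x = 0) (hx0 : x ≠ 0) (hxm : Mem G x) :
    ∃ a, IsMin G a := by
  classical
  have hex : ∃ n, ∃ a : EndM, a * a = 0 ∧ a ≠ 0 ∧ Fam G a ∧
      Module.finrank (ZMod p) (LinearMap.range a) = n := ⟨_, x, hx, hx0, fam_of_mem hx hxm, rfl⟩
  obtain ⟨a, ha, ha0, haf, hn⟩ := Nat.find_spec hex
  exact ⟨a, ha, ha0, haf, fun z hz hz0 hzf =>
    hn.le.trans (Nat.find_min' hex ⟨z, hz, hz0, hzf, rfl⟩)⟩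

theorem chainStab_normalized {a : EndM} {g : GLM}
    (hg : g ∈ Subgroup.normalizer (G : Set GLM))
    (hr : LinearMap.range (cj g⁻¹ a) = LinearMap.range a)
    (hk : LinearMap.ker (cj g⁻¹ a) = LinearMap.ker a) {u : GLM} (hu : u ∈ chainStab G a) :
    g * u * g⁻¹ ∈ chainStab G a := by
  obtain ⟨huG, u1, u2, u3⟩ := hu
  set a' := cj g⁻¹ a with ha'
  have e1 : a' * ((u : EndM) - 1) = 0 := LinearMap.ext fun m => by
    have : ((u : EndM) - 1) m ∈ LinearMap.ker a' := by
      rw [hk]; exact DFunLike.congr_fun u1 m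
    exact this
  have e2 : ((u : EndM) - 1) * a' = 0 := LinearMap.ext fun m => by
    obtain ⟨w, hw⟩ := hr.le (LinearMap.mem_range_self a' m)
    show ((u : EndM) - 1) (a' m) = 0
    rw [← hw]
    exact DFunLike.congr_fun u2 w
  refine ⟨(Subgroup.mem_normalizer_iff.1 hg u).1 huG, ?_, ?_, fun m hm => ?_⟩
  · rw [← cj_sub_one]
    refine cj_injective g⁻¹ ?_
    rw [cj_mul, cj_inv_cj, ← ha', e1, cj_zero]
  · rw [← cj_sub_one]
    refine cj_injective g⁻¹ ?_
    rw [cj_mul, cj_inv_cj, ← ha', e2, cj_zero]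
  · rw [← cj_sub_one]
    set m' := ((g⁻¹ : GLM) : EndM) m with hm'
    have hm0 : m' ∈ LinearMap.ker a := by
      rw [← hk, ha', mem_ker_cj, inv_inv, hm', ← Module.End.mul_apply, Units.mul_inv]
      exact hm
    obtain ⟨w, hw⟩ := u3 m' hm0
    obtain ⟨w', hw'⟩ := hr.ge ⟨w, rfl⟩
    refine ⟨(g : EndM) w', ?_⟩
    show a ((g : EndM) w') = cj g ((u : EndM) - 1) m
    rw [cj, Module.End.mul_apply, Module.End.mul_apply, ← hm', ← hw, ← hw', ha']
    simp only [cj, inv_inv, Module.End.mul_apply]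
    rw [← Module.End.mul_apply (g : EndM) ((g⁻¹ : GLM) : EndM), Units.mul_inv, Module.End.one_apply]

/-- The endomorphisms under conjugation. -/
def CjSpace (p : ℕ) (M : Type*) [AddCommGroup M] [Module (ZMod p) M] := Module.End (ZMod p) M

instance : MulAction (LinearMap.GeneralLinearGroup (ZMod p) M) (CjSpace p M) where
  smul g x := cj g x
  one_smul x := cj_one (k := ZMod p) (M := M) x
  mul_smul g h x := (cj_cj (k := ZMod p) (M := M) g h x).symm

/-- The two swapping elements together carry `a` to `c y c`. -/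
theorem cj_eq_cyc {a y c z : Module.End (ZMod p) M} (hzr : LinearMap.range z = LinearMap.range y)
    (hzk : LinearMap.ker z = LinearMap.ker y) (hy1 : z * y = 0) (hy2 : y * z = 0) (D : Dual a y)
    (Dz : Dual c z) {g g' : LinearMap.GeneralLinearGroup (ZMod p) M}
    (hg : ∀ x, cj g x = nEnd a y 1 * x * nEnd a y (-1))
    (hg' : ∀ x, cj g' x = nEnd c z 1 * x * nEnd c z (-1)) : cj (g' * g) a = c * y * c := by
  have hy3 : z * (c * y) = y := LinearMap.ext fun m => by
    obtain ⟨w, hw⟩ := hzr.ge (LinearMap.mem_range_self y m)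
    show z (c (y m)) = y m
    rw [← hw]
    exact DFunLike.congr_fun Dz.right0 w
  have hy4 : y * (c * z) = y := LinearMap.ext fun m => by
    have h1 : m - c (z m) ∈ LinearMap.ker y := by
      rw [← hzk]
      exact LinearMap.mem_ker.2 (by rw [map_sub, sub_eq_zero]
                                    exact (DFunLike.congr_fun Dz.right0 m).symm)
    rw [LinearMap.mem_ker, map_sub, sub_eq_zero] at h1
    exact h1.symm
  rw [← cj_cj, hg, D.n_cj_self, hg', mul_neg, neg_mul, Dz.n_cj_other hy1 hy2 hy3 hy4, neg_neg]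

/-- A dual of `a` in the space of `y` is unique. -/
theorem dual_unique [Finite M] (h2 : (2 : ZMod p) ≠ 0) {a y z z' : EndM} (ha : IsMin G a)
    (hy : IsMin G y) (h : a * y * a ≠ 0) (hz : z ∈ vsp G y) (hz' : z' ∈ vsp G y) (D : Dual a z)
    (D' : Dual a z') : z = z' := by
  by_contra hne
  refine aba_ne_zero_of_vsp h2 ha hy h ha.self_mem_vsp ha.ne ((vsp G y).sub_mem hz hz')
    (sub_ne_zero.2 hne) ?_
  rw [mul_sub, sub_mul, D.left, D'.left, sub_self]

end basics

section main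

variable {p : ℕ} [Fact p.Prime] {M : Type*} [AddCommGroup M] [Module (ZMod p) M] [Finite M]
variable {G H : Subgroup (LinearMap.GeneralLinearGroup (ZMod p) M)}

local notation "GLM" => LinearMap.GeneralLinearGroup (ZMod p) M
local notation "EndM" => Module.End (ZMod p) M

variable (hp : 5 ≤ p)
include hp

theorem two_ne_zero' : (2 : ZMod p) ≠ 0 := by
  intro e
  have e' : ((2 : ℕ) : ZMod p) = 0 := by exact_mod_cast e
  rw [ZMod.natCast_eq_zero_iff] at e'
  exact absurd (Nat.le_of_dvd (by norm_num) e') (by omega)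

theorem ringChar_ne_two : ringChar (ZMod p) ≠ 2 := by
  rw [ZMod.ringChar_zmod_n]
  omega

theorem card_ne_three : Nat.card (ZMod p) ≠ 3 := by
  rw [Nat.card_zmod]
  omega

theorem genProp_zmod : GenProp (ZMod p) := genProp (two_ne_zero' hp) (card_ne_three hp)

/-- The partner of a minimal element in an opposite space. -/
theorem exists_dual {a b : EndM} (ha : IsMin G a) (hb : IsMin G b) (h : a * b * a ≠ 0) :
    ∃ y, Dual a y ∧ y ∈ vsp G b ∧ y ≠ 0 := by
  obtain ⟨y, hy, hy0, e1, e2⟩ := exists_inv (genProp_zmod hp) (ringChar_ne_two hp)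
    (card_ne_three hp) ha hb h
  exact ⟨y, ⟨ha.sq, mul_eq_zero_of_mem_vsp hy hy, e1, e2⟩, hy, hy0⟩

theorem exists_n_cj (hP : PElts G H) {a y : EndM} (D : Dual a y) (ha : Fam G a) (hy : Fam G y) :
    ∃ g ∈ H, ∀ z : EndM, cj g z = nEnd a y 1 * z * nEnd a y (-1) := by
  have haH := fam_of_pElts hP D.sqL ha
  have hyH := fam_of_pElts hP D.sqR hy
  obtain ⟨g, hg, hge⟩ := exists_n D haH hyH (one_ne_zero (α := ZMod p))
  obtain ⟨g', -, hge'⟩ := exists_n D haH hyH (neg_ne_zero.2 (one_ne_zero (α := ZMod p)))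
  have he : g⁻¹ = g' := inv_eq_of_mul_eq_one_right
    (Units.ext (by rw [Units.val_mul, hge, hge', D.n_mul_n, D.h_one, Units.val_one]))
  exact ⟨g, hg, fun z => by rw [cj, he, hge, hge']⟩

/-- `H` has even order. -/
theorem exists_involution (hP : PElts G H) {a y : EndM} (D : Dual a y) (ha : IsMin G a)
    (hy : Fam G y) : ∃ g ∈ H, orderOf g = 2 := by
  obtain ⟨g, hg, hge⟩ := exists_h D (fam_of_pElts hP D.sqL ha.fam) (fam_of_pElts hP D.sqR hy)
    (neg_ne_zero.2 (one_ne_zero (α := ZMod p)))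
  refine ⟨g, hg, orderOf_eq_prime ?_ ?_⟩
  · refine Units.ext ?_
    rw [pow_two, Units.val_mul, hge, D.h_mul_h, neg_mul_neg, one_mul, D.h_one, Units.val_one]
  · intro e
    have h1 := D.h_mul_left (-1 : ZMod p)
    rw [← hge, e, Units.val_one, one_mul, neg_smul, one_smul, eq_neg_iff_add_eq_zero,
      ← two_smul (ZMod p)] at h1
    exact ha.ne ((smul_eq_zero.1 h1).resolve_left (two_ne_zero' hp))

/-- Adjacent root subgroups are conjugate in the group they generate. -/
theorem exists_conj_adj (hirr : IsIrreducibleFor G) {A C : Subgroup GLM}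
    (h : FAdj (quadraticRootSubgroups G) A C) : ∃ g ∈ A ⊔ C, conjBy A g = C := by
  obtain ⟨hA, hC, hr⟩ := h
  obtain ⟨a, ha, hAm⟩ := exists_of_mem_quadraticRootSubgroups hA
  obtain ⟨c, hc, hCm⟩ := exists_of_mem_quadraticRootSubgroups hC
  have hopp := opp_of_isRankOnePair (genProp_zmod hp) (ringChar_ne_two hp) (card_ne_three hp) hirr
    ha hc hAm hCm hr
  obtain ⟨y, D, hy, hy0⟩ := exists_dual hp ha hc hopp
  have h1 := (cj_inv_identity ha.sq D.sqR D.left D.right).2
  have hu := onePlus_mem_of_vsp hAm ha.self_mem_vsp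
  have hl := onePlus_mem_of_vsp hCm hy
  refine ⟨onePlus a ha.sq * (onePlus y D.sqR)⁻¹,
    mul_mem (Subgroup.mem_sup_left hu) (inv_mem (Subgroup.mem_sup_right hl)), ?_⟩
  have hgG : onePlus a ha.sq * (onePlus y D.sqR)⁻¹ ∈ G :=
    mul_mem (sigma_le_G hA hu) (inv_mem (sigma_le_G hC hl))
  refine (isRootOf_conjBy hAm ha.sq hgG).ext hCm ?_
  rw [h1, vsp_neg]
  exact hc.vsp_eq hy hy0

omit hp in
theorem le_H_of_mem_sigma (hP : PElts G H) {A : Subgroup GLM}
    (hA : A ∈ quadraticRootSubgroups G) : A ≤ H := by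
  obtain ⟨a, -, hAm⟩ := exists_of_mem_quadraticRootSubgroups hA
  intro g hg
  have hm := (hAm g).1 hg
  have h0 := mul_eq_zero_of_mem_vsp hm hm
  have e : g = onePlus _ h0 := eq_onePlus h0 (by rw [add_sub_cancel])
  exact hP g (sigma_le_G hA hg) (by rw [e]; exact pow_prime_eq_one _ h0)

/-- A component is one orbit of the group it generates. -/
theorem exists_conj_comp (hirr : IsIrreducibleFor G) {A C : Subgroup GLM}
    (h : C ∈ comp G A) : ∃ g ∈ ⨆ B ∈ comp G A, B, conjBy A g = C := by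
  obtain ⟨-, h⟩ := h
  induction h with
  | refl => exact ⟨1, one_mem _, RootSub.conjBy_one _⟩
  | @tail C D hAC hCD ih =>
    obtain ⟨g, hg, e⟩ := ih
    obtain ⟨g', hg', e'⟩ := exists_conj_adj hp hirr hCD
    refine ⟨g' * g, mul_mem ((sup_le (le_iSup_mem (S := comp G A) ⟨hCD.1, hAC⟩)
      (le_iSup_mem (S := comp G A) ⟨hCD.2.1, hAC.tail hCD⟩)) hg') hg, ?_⟩
    rw [← RootSub.conjBy_conjBy, e, e']

omit hp in
/-- Conjugation by an element of `G` is an automorphism of the graph. -/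
theorem reach_conjBy {A C : Subgroup GLM}
    (h : Relation.ReflTransGen (FAdj (quadraticRootSubgroups G)) A C) {g : GLM} (hg : g ∈ G) :
    Relation.ReflTransGen (FAdj (quadraticRootSubgroups G)) (conjBy A g) (conjBy C g) := by
  refine h.lift (fun D => conjBy D g) ?_
  rintro C D ⟨hC, hD, hr⟩
  exact ⟨conjBy_mem_quadraticRootSubgroups hC hg, conjBy_mem_quadraticRootSubgroups hD hg,
    RootSub.map_rankOne _ hr fun e => hr.ne (Subgroup.map_injective (MulAut.conj g).injective e)⟩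

/-- The squaring map `c ↦ c y c` is at most two-to-one. -/
theorem eq_or_eq_neg_of_cyc (hP : PElts G H) {a y : EndM} (ha : IsMin G a) (hy : IsMin G y)
    (D : Dual a y) {c c' : EndM} (hc : c ∈ vsp G a) (hc' : c' ∈ vsp G a)
    (he : c * y * c = c' * y * c') : c' = c ∨ c' = -c := by
  have h2 := two_ne_zero' hp
  have hay : a * y * a ≠ 0 := by rw [D.left]; exact ha.ne
  have hin : ∀ x ∈ vsp G a, x * y * x ∈ vsp G a := by
    intro x hx
    by_cases hx0 : x = 0
    · rw [hx0, mul_zero]; exact zero_mem _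
    obtain ⟨hxm, hxr, hxk⟩ := ha.of_mem_vsp hx hx0
    obtain ⟨z, Dz, hz, hz0⟩ := exists_dual hp hxm hy
      (aba_ne_zero_of_vsp h2 ha hy hay hx hx0 hy.self_mem_vsp hy.ne)
    obtain ⟨hzm, hzr, hzk⟩ := hy.of_mem_vsp hz hz0
    have hy1 : z * y = 0 := mul_eq_zero_of_mem_vsp hz hy.self_mem_vsp
    have hy2 : y * z = 0 := mul_eq_zero_of_mem_vsp hy.self_mem_vsp hz
    obtain ⟨g, hg, hgc⟩ := exists_n_cj (H := G) hp (fun g hg _ => hg) D ha.fam hy.fam
    obtain ⟨g', hg', hgc'⟩ := exists_n_cj (H := G) hp (fun g hg _ => hg) Dz hxm.fam hzm.fam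
    have e := cj_eq_cyc hzr hzk hy1 hy2 D Dz hgc hgc'
    have hgG : Fam G (x * y * x) := e ▸ ha.fam.cj (mul_mem hg' hg)
    refine (mem_vsp_iff ha.sq).2 ⟨hgG, ?_, ?_⟩
    · rw [← hxr, mul_assoc]
      exact LinearMap.range_comp_le_range _ x
    · rw [← hxk]
      exact LinearMap.ker_le_ker_comp x _
  -- the restriction of `c y` to the range of `a`
  have hmaps : ∀ x : vsp G a, ∀ m ∈ LinearMap.range a, (x.1 * y) m ∈ LinearMap.range a :=
    fun x m _ => ((mem_vsp_iff ha.sq).1 x.2).2.1 ⟨y m, rfl⟩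
  let Φ : vsp G a →ₗ[ZMod p] Module.End (ZMod p) (LinearMap.range a) :=
    { toFun := fun x => (x.1 * y).restrict (hmaps x)
      map_add' := fun x x' => LinearMap.ext fun m => Subtype.ext rfl
      map_smul' := fun t x => LinearMap.ext fun m => Subtype.ext rfl }
  have hΦ : ∀ (x : vsp G a) (m : LinearMap.range a), ((Φ x) m : M) = x.1 (y m.1) := fun _ _ => rfl
  have hinj : ∀ x : vsp G a, ∀ m, x.1 m = x.1 (y (a m)) := fun x m => by
    have h1 : m - y (a m) ∈ LinearMap.ker a := by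
      rw [LinearMap.mem_ker, map_sub, sub_eq_zero]
      exact (DFunLike.congr_fun D.left0 m).symm
    have h3 := ((mem_vsp_iff ha.sq).1 x.2).2.2 h1
    rwa [LinearMap.mem_ker, map_sub, sub_eq_zero] at h3
  have : Finite (Module.End (ZMod p) (LinearMap.range a)) :=
    Finite.of_injective _ DFunLike.coe_injective
  have hsq : ∀ x ∈ LinearMap.range Φ, x * x ∈ LinearMap.range Φ := by
    rintro _ ⟨x, rfl⟩
    refine ⟨⟨_, hin x.1 x.2⟩, LinearMap.ext fun m => Subtype.ext ?_⟩
    rfl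
  have hunit : ∀ x ∈ LinearMap.range Φ, x ≠ 0 → IsUnit x := by
    rintro _ ⟨x, rfl⟩ hne
    have hx0 : x.1 ≠ 0 := fun e => hne (by rw [show x = 0 from Subtype.ext e, map_zero])
    obtain ⟨-, -, hxk⟩ := ha.of_mem_vsp x.2 hx0
    rw [LinearMap.isUnit_iff_ker_eq_bot, eq_bot_iff]
    rintro ⟨_, m, rfl⟩ hm
    have h1 : y (a m) ∈ LinearMap.ker x.1 := congrArg Subtype.val (LinearMap.mem_ker.1 hm)
    rw [hxk, LinearMap.mem_ker] at h1
    refine (Submodule.mem_bot _).2 (Subtype.ext ?_)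
    show a m = 0
    rw [← DFunLike.congr_fun D.left0 m]
    exact h1
  have h1 : (1 : Module.End (ZMod p) (LinearMap.range a)) ∈ LinearMap.range Φ := by
    refine ⟨⟨a, ha.self_mem_vsp⟩, LinearMap.ext fun m => Subtype.ext ?_⟩
    obtain ⟨w, hw⟩ := m.2
    show a (y m.1) = m.1
    rw [← hw]
    exact DFunLike.congr_fun D.left0 w
  have hΦinj : Function.Injective Φ := fun x x' e => Subtype.ext (LinearMap.ext fun m => by
    have h3 : ((Φ x) ⟨a m, m, rfl⟩ : M) = ((Φ x') ⟨a m, m, rfl⟩ : M) := by rw [e]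
    rw [hΦ, hΦ] at h3
    rw [hinj x m, hinj x' m]
    exact h3)
  have hcsq : Φ ⟨c, hc⟩ * Φ ⟨c, hc⟩ = Φ ⟨c', hc'⟩ * Φ ⟨c', hc'⟩ :=
    LinearMap.ext fun m => Subtype.ext (DFunLike.congr_fun he (y m.1))
  rcases eq_or_eq_neg_of_sq (by omega : p ≠ 2) (LinearMap.range Φ) h1 hsq hunit ⟨_, rfl⟩ ⟨_, rfl⟩
    hcsq with e | e
  · exact Or.inl (congrArg Subtype.val (hΦinj e))
  · rw [← map_neg] at e
    exact Or.inr (congrArg Subtype.val (hΦinj e))

/-- An orbit of the normaliser of a root space has at least half of its nonzero elements. -/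
theorem card_le_orbit (hP : PElts G H) (hHG : H ≤ G) {A : Subgroup GLM} {a y : EndM}
    (ha : IsMin G a) (hA : IsRootOf G A a) (hy : IsMin G y) (D : Dual a y) :
    {c : EndM | c ∈ vsp G a ∧ c ≠ 0}.ncard ≤
      2 * ((fun d => cj d a) '' ↑(H ⊓ Subgroup.normalizer (A : Set GLM))).ncard := by
  classical
  have : Finite EndM := Finite.of_injective _ DFunLike.coe_injective
  have := Fintype.ofFinite EndM
  have h2 := two_ne_zero' hp
  have hay : a * y * a ≠ 0 := by rw [D.left]; exact ha.ne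
  set S := {c : EndM | c ∈ vsp G a ∧ c ≠ 0} with hS
  set O := (fun d => cj d a) '' ↑(H ⊓ Subgroup.normalizer (A : Set GLM)) with hO
  have hmem : ∀ c ∈ S, c * y * c ∈ O := by
    rintro c ⟨hc, hc0⟩
    obtain ⟨hcm, hcr, hck⟩ := ha.of_mem_vsp hc hc0
    obtain ⟨z, Dz, hz, hz0⟩ := exists_dual hp hcm hy
      (aba_ne_zero_of_vsp h2 ha hy hay hc hc0 hy.self_mem_vsp hy.ne)
    obtain ⟨hzm, hzr, hzk⟩ := hy.of_mem_vsp hz hz0
    have hy1 : z * y = 0 := mul_eq_zero_of_mem_vsp hz hy.self_mem_vsp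
    have hy2 : y * z = 0 := mul_eq_zero_of_mem_vsp hy.self_mem_vsp hz
    obtain ⟨g, hg, hgc⟩ := exists_n_cj hp hP D ha.fam hy.fam
    obtain ⟨g', hg', hgc'⟩ := exists_n_cj hp hP Dz hcm.fam hzm.fam
    have e := cj_eq_cyc hzr hzk hy1 hy2 D Dz hgc hgc'
    refine ⟨g' * g, Subgroup.mem_inf.2 ⟨mul_mem hg' hg, ?_⟩, e⟩
    rw [← RootSub.conjBy_eq_self_iff]
    refine (isRootOf_conjBy hA ha.sq (hHG (mul_mem hg' hg))).ext hA ?_
    refine ha.vsp_eq ?_ (fun h0 => ha.ne (cj_injective _ (h0.trans (cj_zero _).symm)))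
    refine (mem_vsp_iff ha.sq).2 ⟨ha.fam.cj (hHG (mul_mem hg' hg)), ?_, ?_⟩ <;> rw [e]
    · rw [← hcr, mul_assoc]
      exact LinearMap.range_comp_le_range _ c
    · rw [← hck]
      exact LinearMap.ker_le_ker_comp c _
  rw [Set.ncard_eq_toFinset_card', Set.ncard_eq_toFinset_card']
  refine le_trans (Finset.card_le_mul_card_image S.toFinset 2 (f := fun c => c * y * c) ?_)
    (Nat.mul_le_mul_left 2 (Finset.card_le_card ?_))
  · intro v hv
    obtain ⟨c, hc, rfl⟩ := Finset.mem_image.1 hv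
    refine (Finset.card_le_card (t := {c, -c}) fun c' hc' => ?_).trans Finset.card_le_two
    rw [Finset.mem_filter, Set.mem_toFinset] at hc'
    rw [Set.mem_toFinset] at hc
    rcases eq_or_eq_neg_of_cyc hp hP ha hy D hc.1 hc'.1.1 hc'.2.symm with e | e <;> simp [e]
  · intro v hv
    obtain ⟨c, hc, rfl⟩ := Finset.mem_image.1 hv
    exact Set.mem_toFinset.2 (hmem c (Set.mem_toFinset.1 hc))

/-- A solvable coprime group of odd order stabilising a component fixes a dual pair in it. -/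
theorem exists_fixed_dual (hirr : IsIrreducibleFor G) (hP : PElts G H) (hHG : H ≤ G)
    {B : Subgroup GLM} (hBG : B ≤ G) (hBH : B ≤ Subgroup.normalizer (H : Set GLM))
    (hcop : (Nat.card B).Coprime (Nat.card H)) (hs : Group.IsSolvable B) (hodd : Odd (Nat.card B))
    {A₀ : Subgroup GLM} (hA₀ : A₀ ∈ quadraticRootSubgroups G)
    (hB : ∀ b ∈ B, Relation.ReflTransGen (FAdj (quadraticRootSubgroups G)) A₀ (conjBy A₀ b)) :
    ∃ a y : EndM, Dual a y ∧ a ≠ 0 ∧ Fam (⨆ C ∈ comp G A₀, C) a ∧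
      Fam (⨆ C ∈ comp G A₀, C) y ∧ ∀ b ∈ B, cj b a = a ∧ cj b y = y := by
  have : Finite GLM := finite_gl
  have h2 := two_ne_zero' hp
  have hgen := genProp_zmod hp
  have hk2 := ringChar_ne_two hp
  have hk3 := card_ne_three hp
  set K := ⨆ C ∈ comp G A₀, C with hK
  have hKH : K ≤ H := iSup₂_le fun C hC => le_H_of_mem_sigma hP hC.1
  let _ : MulAction GLM (Subgroup GLM) :=
    { smul := fun g C => conjBy C g
      one_smul := fun C => RootSub.conjBy_one C
      mul_smul := fun g h C => (RootSub.conjBy_conjBy C h g).symm }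
  have hBK : B ≤ Subgroup.normalizer (K : Set GLM) := by
    have hle : ∀ b ∈ B, conjBy K b ≤ K := by
      intro b hb
      rw [conjBy, hK, Subgroup.map_iSup]
      refine iSup_le fun C => ?_
      rw [Subgroup.map_iSup]
      exact iSup_le fun hC => le_iSup_mem (S := comp G A₀)
        ⟨conjBy_mem_quadraticRootSubgroups hC.1 (hBG hb),
          (hB b hb).trans (reach_conjBy hC.2 (hBG hb))⟩
    intro b hb
    rw [← RootSub.conjBy_eq_self_iff]
    refine le_antisymm (hle b hb) ?_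
    have := (RootSub.conjBy_le_conjBy (g := b)).2 (hle b⁻¹ (inv_mem hb))
    rwa [RootSub.conjBy_conjBy, mul_inv_cancel, RootSub.conjBy_one] at this
  -- an invariant root subgroup
  obtain ⟨k, hk, hkB⟩ := Coprime.exists_fixed_point hBK
    (hcop.coprime_dvd_right (Subgroup.card_dvd_of_le hKH)) (Or.inl hs) A₀
    (fun b hb => exists_conj_comp hp hirr ⟨conjBy_mem_quadraticRootSubgroups hA₀ (hBG hb), hB b hb⟩)
  set A := conjBy A₀ k with hAdef
  change ∀ b ∈ B, conjBy A b = A at hkB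
  have hkG : k ∈ G := hHG (hKH hk)
  have hAc : A ∈ comp G A₀ := ⟨conjBy_mem_quadraticRootSubgroups hA₀ hkG,
    reach_conj hgen hk2 hk3 hirr hA₀ (comp_le hk)⟩
  obtain ⟨a, ha, hAm⟩ := exists_of_mem_quadraticRootSubgroups hAc.1
  have hAm : IsRootOf G A a := hAm
  have hcA : ∀ d ∈ Subgroup.normalizer (A : Set GLM), ∀ c ∈ vsp G a, cj d c ∈ vsp G a := by
    intro d hd c hc
    have h1 := (hAm _).1 ((Subgroup.mem_normalizer_iff.1 hd _).1 (onePlus_mem_of_vsp hAm hc))
    rwa [← cj_sub_one, coe_onePlus, add_sub_cancel_left] at h1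
  have hBA : B ≤ Subgroup.normalizer (A : Set GLM) := fun b hb =>
    RootSub.conjBy_eq_self_iff.1 (hkB b hb)
  have hba : ∀ b ∈ B, cj b a ∈ vsp G a ∧ cj b a ≠ 0 := fun b hb =>
    ⟨hcA b (hBA hb) a ha.self_mem_vsp, fun h0 => ha.ne (cj_injective b (h0.trans (cj_zero b).symm))⟩
  -- an invariant partner space
  obtain ⟨P₀, hP₀, hr₀⟩ := sigma_partner hgen hk2 hk3 hirr hAc.1
  obtain ⟨y₀, hy₀, hP₀m⟩ := exists_of_mem_quadraticRootSubgroups hP₀
  obtain ⟨y, D, hy, hy0⟩ := exists_dual hp ha hy₀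
    (opp_of_isRankOnePair hgen hk2 hk3 hirr ha hy₀ hAm hP₀m hr₀)
  have hym := (hy₀.of_mem_vsp hy hy0).1
  have hP₀y : IsRootOf G P₀ y := fun g => by rw [hy₀.vsp_eq hy hy0]; exact hP₀m g
  have hay : a * y * a ≠ 0 := by rw [D.left]; exact ha.ne
  have haH := fam_of_pElts hP ha.sq ha.fam
  have hUH : chainStab H a ≤ H := fun u hu => hu.1
  have hBU : B ≤ Subgroup.normalizer (chainStab H a : Set GLM) := by
    intro b hb
    have key : ∀ b ∈ B, ∀ u ∈ chainStab H a, b * u * b⁻¹ ∈ chainStab H a := by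
      intro b hb u hu
      obtain ⟨h1, h3⟩ := hba b⁻¹ (inv_mem hb)
      obtain ⟨-, h4, h5⟩ := ha.of_mem_vsp h1 h3
      exact chainStab_normalized (hBH hb) h4 h5 hu
    rw [Subgroup.mem_normalizer_iff]
    refine fun u => ⟨key b hb u, fun hu => ?_⟩
    have := key b⁻¹ (inv_mem hb) _ hu
    simpa [mul_assoc] using this
  obtain ⟨u, hu, huB⟩ := Coprime.exists_fixed_point hBU
    (hcop.coprime_dvd_right (Subgroup.card_dvd_of_le hUH)) (Or.inl hs) P₀ (by
      intro b hb
      obtain ⟨h1, h3⟩ := hba b hb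
      have hb' := hym.cj (hBG hb)
      have hne : a * cj b y * a ≠ 0 := by
        have h4 : cj b a * cj b y * cj b a ≠ 0 := by
          rw [← cj_mul, ← cj_mul]
          exact fun h0 => hay (cj_injective b (h0.trans (cj_zero b).symm))
        exact aba_ne_zero_of_vsp h2 (ha.of_mem_vsp h1 h3).1 hb' h4
          (by rw [ha.vsp_eq h1 h3]; exact ha.self_mem_vsp) ha.ne hb'.self_mem_vsp hb'.ne
      obtain ⟨z, Dz, hz, hz0⟩ := exists_dual hp ha hb' hne
      obtain ⟨hzm, -, -⟩ := hb'.of_mem_vsp hz hz0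
      obtain ⟨g, hg, hge⟩ := exists_chainStab_cj hp Dz D haH
        (fam_of_pElts hP Dz.sqR hzm.fam) (fam_of_pElts hP D.sqR hym.fam)
      refine ⟨g, hg, (isRootOf_conjBy hP₀y hym.sq (hHG hg.1)).ext
        (isRootOf_conjBy hP₀y hym.sq (hBG hb)) ?_⟩
      rw [hge]
      exact hb'.vsp_eq hz hz0)
  change ∀ b ∈ B, conjBy (conjBy P₀ u) b = conjBy P₀ u at huB
  set P := conjBy P₀ u with hPdef
  set z := cj u y with hzdef
  have hzm : IsMin G z := hym.cj (hHG hu.1)
  have hPm : IsRootOf G P z := isRootOf_conjBy hP₀y hym.sq (hHG hu.1)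
  have hua := cj_of_mem_chainStab hu
  have Dz : Dual a z := ⟨D.sqL, hzm.sq,
    by conv_rhs => rw [← hua, ← D.left]
       rw [cj_mul, cj_mul, hua],
    by conv_rhs => rw [hzdef, ← D.right]
       rw [cj_mul, cj_mul, hua]⟩
  have haz : a * z * a ≠ 0 := by rw [Dz.left]; exact ha.ne
  have hPc : P ∈ comp G A₀ := ⟨conjBy_mem_quadraticRootSubgroups hP₀ (hHG hu.1),
    hAc.2.tail ⟨hAc.1, conjBy_mem_quadraticRootSubgroups hP₀ (hHG hu.1),
      isRankOnePair_of_opp hgen hk2 hk3 ha hzm haz hAm hPm⟩⟩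
  have hcP : ∀ b ∈ B, ∀ c ∈ vsp G z, cj b c ∈ vsp G z := by
    intro b hb c hc
    have h1 := (hPm _).1 ((Subgroup.mem_normalizer_iff.1
      (RootSub.conjBy_eq_self_iff.1 (huB b hb)) _).1 (onePlus_mem_of_vsp hPm hc))
    rwa [← cj_sub_one, coe_onePlus, add_sub_cancel_left] at h1
  -- the orbits of the normaliser
  set N := H ⊓ Subgroup.normalizer (A : Set GLM) with hN
  have hBN : B ≤ Subgroup.normalizer (N : Set GLM) := fun b hb =>
    Subgroup.inf_normalizer_le_normalizer_inf ⟨hBH hb, Subgroup.le_normalizer (hBA hb)⟩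
  have : Finite EndM := Finite.of_injective _ DFunLike.coe_injective
  set S := {c : EndM | c ∈ vsp G a ∧ c ≠ 0} with hS
  let O : EndM → Set EndM := fun c => (fun d => cj d c) '' (N : Set GLM)
  have hsub : ∀ c ∈ S, O c ⊆ S := by
    rintro c ⟨hc, hc0⟩ _ ⟨d, hd, rfl⟩
    exact ⟨hcA d (Subgroup.mem_inf.1 hd).2 c hc,
      fun h0 => hc0 (cj_injective d (h0.trans (cj_zero d).symm))⟩
  have hcard : ∀ c ∈ S, S.ncard ≤ 2 * (O c).ncard := by
    rintro c ⟨hc, hc0⟩
    obtain ⟨hcm, -, -⟩ := ha.of_mem_vsp hc hc0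
    obtain ⟨w, Dw, hw, hw0⟩ := exists_dual hp hcm hzm
      (aba_ne_zero_of_vsp h2 ha hzm haz hc hc0 hzm.self_mem_vsp hzm.ne)
    have h1 := card_le_orbit hp hP hHG hcm (A := A)
      (fun g => by rw [ha.vsp_eq hc hc0]; exact hAm g) (hzm.of_mem_vsp hw hw0).1 Dw
    rwa [ha.vsp_eq hc hc0] at h1
  have haS : a ∈ S := ⟨ha.self_mem_vsp, ha.ne⟩
  have htrans : ∀ b ∈ B, ∀ c d : EndM, d ∈ O c → cj b d ∈ O (cj b c) := by
    rintro b hb c _ ⟨n, hn, rfl⟩
    refine ⟨b * n * b⁻¹, (Subgroup.mem_normalizer_iff.1 (hBN hb) n).1 hn, ?_⟩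
    simp only [cj_cj, inv_mul_cancel_right]
  have horb : ∀ b ∈ B, cj b a ∈ O a := by
    intro b hb
    by_contra hnot
    have hOmul : ∀ {c d e : EndM}, d ∈ O c → e ∈ O d → e ∈ O c := by
      rintro c _ _ ⟨n, hn, rfl⟩ ⟨n', hn', rfl⟩
      exact ⟨n' * n, N.mul_mem hn' hn, by simp only [cj_cj]⟩
    have hOsymm : ∀ {c d : EndM}, d ∈ O c → c ∈ O d := by
      rintro c _ ⟨n, hn, rfl⟩
      exact ⟨n⁻¹, N.inv_mem hn, cj_inv_cj n c⟩
    have hdisj : ∀ {c d : EndM}, d ∉ O c → Disjoint (O c) (O d) := by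
      intro c d hd
      rw [Set.disjoint_left]
      exact fun e he he' => hd (hOmul he (hOsymm he'))
    set a₁ := cj b a with ha₁
    set a₂ := cj b a₁ with ha₂
    have h12 : a₂ ∉ O a₁ := fun h => by
      have h1 := htrans b⁻¹ (inv_mem hb) _ _ h
      rw [ha₂, ha₁, cj_inv_cj, cj_inv_cj] at h1
      exact hnot h1
    have h02 : a₂ ∉ O a := by
      intro h
      have hev : ∀ m : ℕ, cj (b ^ (2 * m)) a ∈ O a := by
        intro m
        induction m with
        | zero => exact ⟨1, N.one_mem, by simp [cj_one]⟩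
        | succ m ih =>
          have h1 := htrans (b * b) (mul_mem hb hb) _ _ ih
          rw [cj_cj, ← cj_cj b b a, ← ha₁, ← ha₂, ← pow_two, ← pow_add] at h1
          rw [show 2 * (m + 1) = 2 + 2 * m by ring]
          exact hOmul h h1
      obtain ⟨m, hm⟩ := hodd
      have h1 := hev (m + 1)
      rw [show 2 * (m + 1) = 2 * m + 1 + 1 by ring, ← hm, pow_succ,
        show b ^ Nat.card B = 1 from orderOf_dvd_iff_pow_eq_one.1
          (Subgroup.orderOf_dvd_natCard B hb), one_mul] at h1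
      exact hnot h1
    have hd01 := hdisj hnot
    have hd02 := hdisj h02
    have hd12 := hdisj h12
    have ha1S : a₁ ∈ S := ⟨(hba b hb).1, (hba b hb).2⟩
    have ha2S : a₂ ∈ S := ⟨hcA b (hBA hb) _ (hba b hb).1,
      fun h0 => (hba b hb).2 (cj_injective b (h0.trans (cj_zero b).symm))⟩
    have hle := Set.ncard_le_ncard (Set.union_subset (Set.union_subset (hsub a haS) (hsub a₁ ha1S))
      (hsub a₂ ha2S)) (Set.toFinite S)
    rw [Set.ncard_union_eq (Set.disjoint_union_left.2 ⟨hd02, hd12⟩) (Set.toFinite _) (Set.toFinite _),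
      Set.ncard_union_eq hd01 (Set.toFinite _) (Set.toFinite _)] at hle
    have h0 := hcard a haS
    have h1 := hcard a₁ ha1S
    have h3 := hcard a₂ ha2S
    have hpos : 0 < S.ncard := (Set.ncard_pos (Set.toFinite S)).2 ⟨a, haS⟩
    omega
  obtain ⟨d, hd, hdB⟩ := Coprime.exists_fixed_point (X := CjSpace p M) hBN
    (hcop.coprime_dvd_right (Subgroup.card_dvd_of_le inf_le_left)) (Or.inl hs) a horb
  change ∀ b ∈ B, cj b (cj d a) = cj d a at hdB
  have hcS : cj d a ∈ S := hsub a haS ⟨d, hd, rfl⟩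
  obtain ⟨hc, hc0⟩ := hcS
  set c := cj d a with hcdef
  obtain ⟨hcm, -, -⟩ := ha.of_mem_vsp hc hc0
  have hcz := aba_ne_zero_of_vsp h2 ha hzm haz hc hc0 hzm.self_mem_vsp hzm.ne
  obtain ⟨w, Dw, hw, -⟩ := exists_dual hp hcm hzm hcz
  refine ⟨c, w, Dw, hc0, ?_, ?_, fun b hb => ⟨hdB b hb, ?_⟩⟩
  · exact fam_of_mem Dw.sqL ⟨_, le_iSup_mem hAc (onePlus_mem_of_vsp hAm hc), rfl⟩
  · exact fam_of_mem Dw.sqR ⟨_, le_iSup_mem hPc (onePlus_mem_of_vsp hPm hw), rfl⟩
  · refine dual_unique h2 hcm hzm hcz (hcP b hb w hw) hw ⟨Dw.sqL, ?_, ?_, ?_⟩ Dw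
    · rw [← cj_mul, Dw.sqR, cj_zero]
    · conv_rhs => rw [← hdB b hb, ← Dw.left]
      rw [cj_mul, cj_mul, hdB b hb]
    · conv_rhs => rw [← Dw.right]
      rw [cj_mul, cj_mul, hdB b hb]

end main

end Cfsg.Agent.EquivariantZJ
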