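import Cfsg.Agent.Lib.EquivariantZJ.Fixed
import Cfsg.Agent.Lib.RootSub.SL2Hom
import Cfsg.Agent.Lib.PSL2.Basic
import Cfsg.Agent.Lib.ConjFun.Basic
import Cfsg.Prelude.Def_LocalEven
import Mathlib.GroupTheory.NoncommPiCoprod

/-!
An irreducible group of linear maps in characteristic at least five containing a quadratic element
has even order, and a coprime solvable group normalising it centralises an image of `SL(2, p)`.
-/

set_option autoImplicit false
set_option linter.unusedSectionVars false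

namespace Cfsg.Agent.EquivariantZJ

open Cfsg Cfsg.Agent.QuadPair
open scoped MatrixGroups

section product

variable {S N I : Type*} [Group S] [Group N] [Fintype I]

/-- The product of pairwise commuting homomorphisms, as a homomorphism. -/
def diagProd (f : I → S →* N)
    (hc : Pairwise fun i j => ∀ x y : S, Commute (f i x) (f j y)) : S →* N :=
  (MonoidHom.noncommPiCoprod f hc).comp (MonoidHom.mk' (fun s _ => s) fun _ _ => rfl)

theorem diagProd_mem (f : I → S →* N)
    (hc : Pairwise fun i j => ∀ x y : S, Commute (f i x) (f j y)) {K : Subgroup N}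
    (h : ∀ i s, f i s ∈ K) (s : S) : diagProd f hc s ∈ K :=
  Subgroup.noncommProd_mem _ (fun _ _ _ _ hij => hc hij _ _) fun i _ => h i s

theorem diagProd_comm (f : I → S →* N)
    (hc : Pairwise fun i j => ∀ x y : S, Commute (f i x) (f j y)) {g : N →* N} (σ : Equiv.Perm I)
    (h : ∀ i, g.comp (f i) = f (σ i)) (s : S) : g (diagProd f hc s) = diagProd f hc s := by
  classical
  let P : (I → S) →* (I → S) := MonoidHom.mk' (fun u i => u (σ.symm i)) fun _ _ => rfl
  have key : g.comp (MonoidHom.noncommPiCoprod f hc) = (MonoidHom.noncommPiCoprod f hc).comp P := by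
    refine (MonoidHom.noncommPiCoprodEquiv (N := fun _ : I => S)).symm.injective
      (Subtype.ext (funext fun i => MonoidHom.ext fun x => ?_))
    show g (MonoidHom.noncommPiCoprod f hc (Pi.mulSingle i x)) =
      MonoidHom.noncommPiCoprod f hc (P (Pi.mulSingle i x))
    have hP : P (Pi.mulSingle i x) = Pi.mulSingle (σ i) x := by
      funext j
      show (Pi.mulSingle i x : I → S) (σ.symm j) = _
      by_cases e : j = σ i
      · subst e; simp
      · rw [Pi.mulSingle_eq_of_ne e, Pi.mulSingle_eq_of_ne]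
        intro e'
        exact e (by rw [← e', Equiv.apply_symm_apply])
    rw [hP, MonoidHom.noncommPiCoprod_mulSingle, MonoidHom.noncommPiCoprod_mulSingle, ← h i]
    rfl
  exact DFunLike.congr_fun key fun _ => s

theorem commute_of_diagProd_eq_one (f : I → S →* N)
    (hc : Pairwise fun i j => ∀ x y : S, Commute (f i x) (f j y)) {u : S}
    (h : diagProd f hc u = 1) (i : I) (w : S) : Commute (f i u) (f i w) := by
  classical
  have e : (fun _ : I => u) = Pi.mulSingle i u * Function.update (fun _ : I => u) i 1 := by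
    funext j
    by_cases hj : j = i
    · subst hj; simp
    · simp [hj]
  have h' : MonoidHom.noncommPiCoprod f hc (fun _ : I => u) = 1 := h
  rw [e, map_mul, MonoidHom.noncommPiCoprod_mulSingle, mul_eq_one_iff_eq_inv] at h'
  rw [h', ← MonoidHom.noncommPiCoprod_mulSingle f (hcomm := hc) i w]
  refine Commute.inv_left (Commute.map ?_ _)
  funext j
  by_cases hj : j = i
  · subst hj; simp
  · simp [hj]

end product

section sl2

variable {p : ℕ} [Fact p.Prime] {M : Type*} [AddCommGroup M] [Module (ZMod p) M]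

local notation "GLM" => LinearMap.GeneralLinearGroup (ZMod p) M
local notation "EndM" => Module.End (ZMod p) M

theorem Dual.n_cj_left {a y : EndM} (D : Dual a y) {t : ZMod p} (ht : t ≠ 0) :
    nEnd a y t * a * nEnd a y (-t) = -((t ^ 2)⁻¹ • y) := by
  rw [D.n_mul_left, neg_mul]
  simp only [nEnd, mul_add, mul_sub, mul_one, mul_smul_comm, smul_mul_assoc, mul_assoc, D.sqL,
    D.sqL', D.left0, D.right0, D.left', mul_neg, mul_zero, smul_zero, inv_neg, neg_smul, smul_neg]
  match_scalars <;> field_simp <;> ring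

theorem Dual.n_cj_right {a y : EndM} (D : Dual a y) {t : ZMod p} (ht : t ≠ 0) :
    nEnd a y t * y * nEnd a y (-t) = -((t ^ 2) • a) := by
  rw [D.n_mul_right]
  simp only [nEnd, mul_add, mul_sub, mul_one, mul_smul_comm, smul_mul_assoc, mul_assoc, D.sqR,
    D.sqR', D.left0, D.right0, D.right', mul_neg, mul_zero, smul_zero, inv_neg, neg_smul,
    smul_neg]
  match_scalars <;> field_simp <;> ring

/-- A dual pair gives a homomorphism on `SL(2, p)`. -/
theorem exists_sl2Hom [Finite M] {a y : EndM} (D : Dual a y) (ha0 : a ≠ 0) {K : Subgroup GLM}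
    (ha : Fam K a) (hy : Fam K y) :
    ∃ φ : SL(2, ZMod p) →* GLM, (∀ s, φ s ∈ K) ∧
      (∀ b : GLM, cj b a = a → cj b y = y → ∀ s, b * φ s * b⁻¹ = φ s) ∧
      ∃ u w, ¬ Commute (φ u) (φ w) := by
  set xx : ZMod p → GLM := fun t => onePlus (t • a) (smul_sq D.sqL t) with hxx
  set yy : ZMod p → GLM := fun t => onePlus (t • y) (smul_sq D.sqR t) with hyy
  set X := Subgroup.closure (Set.range xx ∪ Set.range yy) with hX
  let x' : ZMod p → X := fun t => ⟨xx t, Subgroup.subset_closure (Or.inl ⟨t, rfl⟩)⟩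
  let y' : ZMod p → X := fun t => ⟨yy t, Subgroup.subset_closure (Or.inr ⟨t, rfl⟩)⟩
  have hadd : ∀ {z : EndM} (hz : z * z = 0) (s t : ZMod p),
      onePlus ((s + t) • z) (smul_sq hz (s + t)) =
        onePlus (s • z) (smul_sq hz s) * onePlus (t • z) (smul_sq hz t) := by
    intro z hz s t
    refine Units.ext ?_
    rw [Units.val_mul, coe_onePlus, coe_onePlus, coe_onePlus, mul_add, mul_one, add_mul, one_mul,
      smul_mul_assoc, mul_smul_comm, hz, smul_zero, smul_zero, add_zero, add_smul, add_assoc]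
  have hn : ∀ t : ZMod p, t ≠ 0 → ((xx t * yy (-t⁻¹) * xx t : GLM) : EndM) = nEnd a y t := by
    intro t ht
    rw [← D.word_n ht, Units.val_mul, Units.val_mul, coe_onePlus, coe_onePlus, neg_smul,
      sub_eq_add_neg (1 : EndM)]
  have hinv : ∀ t : ZMod p,
      (xx t * yy (-t⁻¹) * xx t)⁻¹ = xx (-t) * yy (-(-t)⁻¹) * xx (-t) := by
    intro t
    have e : ∀ {z : EndM} (hz : z * z = 0) (s : ZMod p),
        (onePlus (s • z) (smul_sq hz s))⁻¹ = onePlus ((-s) • z) (smul_sq hz (-s)) := fun hz s => by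
      refine inv_eq_of_mul_eq_one_right ?_
      rw [← hadd hz]
      refine Units.ext ?_
      rw [coe_onePlus, add_neg_cancel, zero_smul, add_zero, Units.val_one]
    rw [mul_inv_rev, mul_inv_rev, show (xx t)⁻¹ = xx (-t) from e D.sqL t,
      show (yy (-t⁻¹))⁻¹ = yy (-(-t⁻¹)) from e D.sqR _, inv_neg, mul_assoc]
  have R : RootSub.SL2Rels x' y' := by
    refine ⟨fun s t => Subtype.ext (hadd D.sqL s t), fun s t => Subtype.ext (hadd D.sqR s t),
      fun t ht => Subtype.ext (Units.ext ?_), fun t ht s => Subtype.ext (Units.ext ?_),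
      fun t ht r => Subtype.ext (Units.ext ?_), ?_⟩
    · show ((xx t * yy (-t⁻¹) * xx t : GLM) : EndM) = ((yy (-t⁻¹) * xx t * yy (-t⁻¹) : GLM) : EndM)
      rw [hn t ht, ← D.word_n' ht, Units.val_mul, Units.val_mul, coe_onePlus, coe_onePlus,
        neg_smul, sub_eq_add_neg (1 : EndM)]
    · show ((xx t * yy (-t⁻¹) * xx t * xx s * (xx t * yy (-t⁻¹) * xx t)⁻¹ : GLM) : EndM) =
        ((yy (-(s / t ^ 2)) : GLM) : EndM)
      have h := D.word_n (neg_ne_zero.2 ht)
      have hone : nEnd a y t * nEnd a y (-t) = 1 := by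
        rw [← hn t ht, ← hn (-t) (neg_ne_zero.2 ht), ← hinv, Units.mul_inv]
      rw [hinv, Units.val_mul, Units.val_mul (_ * _ * _ : GLM), hn t ht, hn (-t) (neg_ne_zero.2 ht),
        coe_onePlus, coe_onePlus, mul_add, mul_one, add_mul, hone, mul_smul_comm, smul_mul_assoc,
        D.n_cj_left ht, smul_neg, smul_smul, neg_smul, div_eq_mul_inv]
    · show ((xx t * yy (-t⁻¹) * xx t * yy r * (xx t * yy (-t⁻¹) * xx t)⁻¹ : GLM) : EndM) =
        ((xx (-(r * t ^ 2)) : GLM) : EndM)
      have hone : nEnd a y t * nEnd a y (-t) = 1 := by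
        rw [← hn t ht, ← hn (-t) (neg_ne_zero.2 ht), ← hinv, Units.mul_inv]
      rw [hinv, Units.val_mul, Units.val_mul (_ * _ * _ : GLM), hn t ht, hn (-t) (neg_ne_zero.2 ht),
        coe_onePlus, coe_onePlus, mul_add, mul_one, add_mul, hone, mul_smul_comm, smul_mul_assoc,
        D.n_cj_right ht, smul_neg, smul_smul, neg_smul]
    · rw [show Set.range x' ∪ Set.range y' =
        Subtype.val ⁻¹' (Set.range xx ∪ Set.range yy) from ?_]
      · exact Subgroup.closure_closure_coe_preimage
      ext ⟨g, hg⟩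
      simp only [Set.mem_union, Set.mem_range, Set.mem_preimage, x', y', Subtype.mk.injEq]
  obtain ⟨φ, hu, hl, -⟩ := R.exists_hom
  have hmemK : X ≤ K := by
    refine (Subgroup.closure_le K).2 ?_
    rintro _ (⟨t, rfl⟩ | ⟨t, rfl⟩)
    · exact (ha t).onePlus_mem _
    · exact (hy t).onePlus_mem _
  refine ⟨X.subtype.comp φ, fun s => hmemK (φ s).2, fun b hb hb' s => ?_,
    SL2Presentation.uL 1, SL2Presentation.tL * SL2Presentation.uL (-1) * SL2Presentation.tL⁻¹, ?_⟩
  · have hle : X ≤ Subgroup.centralizer ({b} : Set GLM) := by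
      refine (Subgroup.closure_le _).2 ?_
      have key : ∀ {z : EndM} (hz : z * z = 0) (t : ZMod p), cj b z = z →
          onePlus (t • z) (smul_sq hz t) ∈ Subgroup.centralizer ({b} : Set GLM) := by
        intro z hz t hbz
        rw [Subgroup.mem_centralizer_singleton_iff]
        refine Units.ext ?_
        have e : (b : EndM) * z = z * (b : EndM) := by
          conv_rhs => rw [← hbz, cj, mul_assoc, Units.inv_mul, mul_one]
        rw [Units.val_mul, Units.val_mul, coe_onePlus, add_mul, mul_add, one_mul, mul_one,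
          smul_mul_assoc, mul_smul_comm, e]
      rintro _ (⟨t, rfl⟩ | ⟨t, rfl⟩)
      · exact key D.sqL t hb
      · exact key D.sqR t hb'
    have h := Subgroup.mem_centralizer_singleton_iff.1 (hle (φ s).2)
    show b * (φ s : GLM) * b⁻¹ = φ s
    rw [← h, mul_inv_cancel_right]
  · show ¬ Commute ((φ _ : X) : GLM) ((φ _ : X) : GLM)
    rw [hu, hl]
    intro h
    have h1 : xx 1 * yy 1 = yy 1 * xx 1 := h.eq
    rw [commute_iff_sub_one, hxx, hyy, coe_onePlus, coe_onePlus, add_sub_cancel_left, add_sub_cancel_left,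
      one_smul, one_smul] at h1
    refine ha0 ?_
    rw [← D.left, h1, mul_assoc, D.sqL, mul_zero]

end sl2

section main

variable {p : ℕ} [Fact p.Prime] {M : Type*} [AddCommGroup M] [Module (ZMod p) M] [Finite M]

local notation "GLM" => LinearMap.GeneralLinearGroup (ZMod p) M
local notation "EndM" => Module.End (ZMod p) M

/-- The irreducible case: even order, and fixed points containing an image of `SL(2, p)`. -/
theorem even_and_exists_hom (hp : 5 ≤ p) {H B : Subgroup GLM}
    (hBH : B ≤ Subgroup.normalizer (H : Set GLM)) (hcop : (Nat.card B).Coprime (Nat.card H))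
    (hirr : IsIrreducibleFor (H ⊔ B)) {x : GLM} (hxH : x ∈ H)
    (hq : ((x : EndM) - 1) * ((x : EndM) - 1) = 0) (hx1 : x ≠ 1) :
    Even (Nat.card H) ∧ (Group.IsSolvable B →
      ∃ Φ : SL(2, ZMod p) →* GLM, Φ ≠ 1 ∧ ∀ s, Φ s ∈ H ⊓ Subgroup.centralizer (B : Set GLM)) := by
  classical
  have : Finite GLM := finite_gl
  set G := H ⊔ B with hG
  have hHG : H ≤ G := le_sup_left
  have hBG : B ≤ G := le_sup_right
  have hgen := genProp_zmod hp
  have hk2 := ringChar_ne_two hp
  have hk3 := card_ne_three hp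
  have hxe : x = onePlus ((x : EndM) - 1) hq := eq_onePlus hq (by rw [add_sub_cancel])
  have hxp : orderOf x = p := orderOf_eq_prime (by rw [hxe]; exact pow_prime_eq_one _ _) hx1
  have hpB : ¬ p ∣ Nat.card B := fun h => by
    have h1 := Subgroup.orderOf_dvd_natCard _ hxH
    rw [hxp] at h1
    exact (Fact.out : p.Prime).one_lt.ne' (Nat.eq_one_of_dvd_coprimes hcop h h1)
  have hP : PElts G H := by
    intro g hg hgp
    have hn : (H.subgroupOf G).Normal :=
      Coprime.normal_subgroupOf_of_le_normalizer (sup_le Subgroup.le_normalizer hBH)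
    have hd : orderOf (QuotientGroup.mk' (H.subgroupOf G) ⟨g, hg⟩) ∣ p :=
      orderOf_dvd_of_pow_eq_one (by
        rw [← map_pow, show (⟨g, hg⟩ : G) ^ p = 1 from Subtype.ext hgp, map_one])
    have hd' : orderOf (QuotientGroup.mk' (H.subgroupOf G) ⟨g, hg⟩) ∣ Nat.card B := by
      refine (orderOf_dvd_natCard _).trans ?_
      have e : H.relIndex (B ⊔ H) = H.relIndex B := Coprime.relIndex_sup_right_of_le_normalizer hBH
      rw [sup_comm] at e
      show (H.relIndex G) ∣ _
      rw [hG, e]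
      exact Subgroup.relIndex_dvd_card H B
    have h1 : orderOf (QuotientGroup.mk' (H.subgroupOf G) ⟨g, hg⟩) = 1 :=
      Nat.eq_one_of_dvd_coprimes ((Fact.out : p.Prime).coprime_iff_not_dvd.2 hpB) hd hd'
    rw [orderOf_eq_one_iff, QuotientGroup.mk'_apply, QuotientGroup.eq_one_iff] at h1
    exact h1
  obtain ⟨a₀, ha₀⟩ := exists_isMin (G := G) hq (sub_one_ne_zero hx1)
    ⟨x, hHG hxH, by rw [add_sub_cancel]⟩
  obtain ⟨A₀, hA₀, hA₀m⟩ := exists_sigma ha₀
  obtain ⟨P₀, hP₀, hr₀⟩ := sigma_partner hgen hk2 hk3 hirr hA₀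
  obtain ⟨c₀, hc₀, hP₀m⟩ := exists_of_mem_quadraticRootSubgroups hP₀
  obtain ⟨y₀, D₀, hy₀, hy₀0⟩ := exists_dual hp ha₀ hc₀
    (opp_of_isRankOnePair hgen hk2 hk3 hirr ha₀ hc₀ hA₀m hP₀m hr₀)
  obtain ⟨j, hj, hj2⟩ := exists_involution hp hP D₀ ha₀ (hc₀.of_mem_vsp hy₀ hy₀0).1.fam
  have heven : Even (Nat.card H) :=
    even_iff_two_dvd.2 (hj2 ▸ Subgroup.orderOf_dvd_natCard _ hj)
  refine ⟨heven, fun hs => ?_⟩
  have hBodd : Odd (Nat.card B) := by
    rw [← Nat.not_even_iff_odd, even_iff_two_dvd]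
    intro h
    exact absurd (Nat.eq_one_of_dvd_coprimes hcop h (even_iff_two_dvd.1 heven)) (by norm_num)
  -- the stabiliser of the component
  let Bc : Subgroup GLM :=
    { carrier := {b | b ∈ B ∧
        Relation.ReflTransGen (FAdj (quadraticRootSubgroups G)) A₀ (conjBy A₀ b)}
      one_mem' := ⟨B.one_mem, by rw [RootSub.conjBy_one]⟩
      mul_mem' := by
        rintro b c ⟨hb, hb'⟩ ⟨hc, hc'⟩
        refine ⟨B.mul_mem hb hc, hb'.trans ?_⟩
        rw [← RootSub.conjBy_conjBy]
        exact reach_conjBy hc' (hBG hb)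
      inv_mem' := by
        rintro b ⟨hb, hb'⟩
        refine ⟨B.inv_mem hb, RootSub.fReach_symm ?_⟩
        have h1 := reach_conjBy hb' (hBG (B.inv_mem hb))
        rwa [RootSub.conjBy_conjBy, inv_mul_cancel, RootSub.conjBy_one] at h1 }
  have hBcB : Bc ≤ B := fun b hb => hb.1
  obtain ⟨a, y, D, ha0, haK, hyK, hfix⟩ := exists_fixed_dual hp hirr hP hHG (B := Bc)
    (hBcB.trans hBG) (hBcB.trans hBH) (hcop.coprime_dvd_left (Subgroup.card_dvd_of_le hBcB))
    (Coprime.isSolvable_of_le hBcB hs) (hBodd.of_dvd_nat (Subgroup.card_dvd_of_le hBcB)) hA₀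
    fun b hb => hb.2
  set K := ⨆ C ∈ comp G A₀, C with hK
  obtain ⟨φ, hφK, hφfix, u, w, huw⟩ := exists_sl2Hom D ha0 haK hyK
  have hKH : K ≤ H := iSup₂_le fun C hC => le_H_of_mem_sigma hP hC.1
  -- conjugate components
  let I := B ⧸ Bc.subgroupOf B
  let _ : Fintype I := Fintype.ofFinite I
  let f : I → SL(2, ZMod p) →* GLM := fun q => (MulAut.conj (q.out : GLM)).toMonoidHom.comp φ
  have hf : ∀ (b : B) s, f (QuotientGroup.mk b) s = (b : GLM) * φ s * (b : GLM)⁻¹ := by
    intro b s
    obtain ⟨β, hβ⟩ := QuotientGroup.mk_out_eq_mul (Bc.subgroupOf B) b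
    show ((QuotientGroup.mk b : I).out : GLM) * φ s * ((QuotientGroup.mk b : I).out : GLM)⁻¹ = _
    obtain ⟨e1, e2⟩ := hfix _ β.2
    rw [hβ, Subgroup.coe_mul]
    conv_rhs => rw [← hφfix ((β : B) : GLM) e1 e2 s]
    group
  have hcomm : Pairwise fun i j => ∀ s t, Commute (f i s) (f j t) := by
    intro i j hij
    induction i using QuotientGroup.induction_on with | H b =>
    induction j using QuotientGroup.induction_on with | H b' =>
    intro s t
    rw [hf, hf]
    have key : conjBy K (b : GLM) ≤ Subgroup.centralizer (conjBy K (b' : GLM) : Set GLM) := by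
      rw [Subgroup.le_centralizer_iff]
      rw [conjBy, hK, Subgroup.map_iSup]
      refine iSup_le fun C' => ?_
      rw [Subgroup.map_iSup]
      refine iSup_le fun hC' => ?_
      rw [Subgroup.le_centralizer_iff, conjBy, Subgroup.map_iSup]
      refine iSup_le fun C => ?_
      rw [Subgroup.map_iSup]
      refine iSup_le fun hC => ?_
      refine Subgroup.commutator_eq_bot_iff_le_centralizer.1 (comp_commute hgen hk2 hk3 hirr
        (A := conjBy A₀ (b : GLM)) (B := conjBy A₀ (b' : GLM))
        ⟨conjBy_mem_quadraticRootSubgroups hC.1 (hBG b.2), reach_conjBy hC.2 (hBG b.2)⟩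
        ⟨conjBy_mem_quadraticRootSubgroups hC'.1 (hBG b'.2), reach_conjBy hC'.2 (hBG b'.2)⟩ ?_)
      intro e
      refine hij (QuotientGroup.eq.2 (Subgroup.mem_subgroupOf.2 ⟨(b⁻¹ * b').2, ?_⟩))
      have h1 := e.symm ▸ comp_self (conjBy_mem_quadraticRootSubgroups hA₀ (hBG b'.2))
      have h3 := reach_conjBy h1.2 (hBG (B.inv_mem b.2))
      rwa [RootSub.conjBy_conjBy, RootSub.conjBy_conjBy, inv_mul_cancel, RootSub.conjBy_one] at h3
    exact (Subgroup.mem_centralizer_iff.1 (key ⟨φ s, hφK s, rfl⟩) _ ⟨φ t, hφK t, rfl⟩).symm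
  refine ⟨diagProd f hcomm, fun e => huw ?_, fun s => Subgroup.mem_inf.2 ⟨?_, ?_⟩⟩
  · have h1 := commute_of_diagProd_eq_one f hcomm (u := u)
      (by rw [e]; rfl) (QuotientGroup.mk 1) w
    rw [hf, hf] at h1
    simpa using h1
  · refine diagProd_mem f hcomm (fun q t => ?_) s
    exact (Subgroup.mem_normalizer_iff.1 (hBH q.out.2) _).1 (hKH (hφK t))
  · rw [Subgroup.mem_centralizer_iff]
    intro b hb
    let σ : Equiv.Perm I := MulAction.toPerm (⟨b, hb⟩ : B)
    have h1 := diagProd_comm f hcomm (g := (MulAut.conj b).toMonoidHom) σ (fun q => by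
      induction q using QuotientGroup.induction_on with | H c =>
      refine MonoidHom.ext fun t => ?_
      show b * f (QuotientGroup.mk c) t * b⁻¹ = f (QuotientGroup.mk ((⟨b, hb⟩ : B) * c)) t
      rw [hf, hf, Subgroup.coe_mul]
      group) s
    rw [MulEquiv.coe_toMonoidHom, MulAut.conj_apply, mul_inv_eq_iff_eq_mul] at h1
    exact h1

end main

section involves

/-- A nontrivial image of `SL(2, p)` involves `PSL(2, p)`. -/
theorem involves_psl {p : ℕ} [Fact p.Prime] (hp : 5 ≤ p) {G : Type*} [Group G]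
    (Φ : SL(2, ZMod p) →* G) (hΦ : Φ ≠ 1) (K : Subgroup G) (hK : ∀ s, Φ s ∈ K) {F : Type*} [Field F]
    [Fintype F] (hF : Fintype.card F = p) :
    Cfsg.Involves (Matrix.ProjectiveSpecialLinearGroup (Fin 2) F) K := by
  classical
  let e : ZMod p ≃+* F := ZMod.ringEquivOfPrime F Fact.out hF
  let m : SL(2, F) →* SL(2, ZMod p) := Matrix.SpecialLinearGroup.map e.symm.toRingHom
  have hm : Function.Surjective m := fun g =>
    ⟨Matrix.SpecialLinearGroup.map e.toRingHom g, by
      refine Subtype.ext (Matrix.ext fun i j => ?_)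
      exact e.symm_apply_apply _⟩
  let ψ : SL(2, F) →* K := (Φ.comp m).codRestrict K fun s => hK _
  have hψ : ψ.ker ≠ ⊤ := by
    intro h
    refine hΦ (MonoidHom.ext fun g => ?_)
    obtain ⟨g', rfl⟩ := hm g
    have : ψ g' = 1 := MonoidHom.mem_ker.1 (h ▸ Subgroup.mem_top g')
    exact congrArg Subtype.val this
  let q := QuotientGroup.mk' (Subgroup.center SL(2, F))
  have hF4 : 4 ≤ Fintype.card F := by omega
  have hker : ψ.ker ≤ Subgroup.center SL(2, F) := by
    have hs : IsSimpleGroup PSL(2, F) := PSL2.psl_isSimpleGroup hF4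
    rcases hs.eq_bot_or_eq_top_of_normal _ (ψ.normal_ker.map q (QuotientGroup.mk'_surjective _))
      with h | h
    · rw [Subgroup.map_eq_bot_iff, QuotientGroup.ker_mk'] at h
      exact h
    · refine absurd ?_ hψ
      rw [eq_top_iff, ← PSL2.sl_commutator_eq_top (F := F) hF4, commutator_def,
        Subgroup.commutator_le]
      intro g _ g' _
      have hdec : ∀ g : SL(2, F), ∃ n ∈ ψ.ker, ∃ z ∈ Subgroup.center SL(2, F), g = n * z := by
        intro g
        obtain ⟨n, hn, hn'⟩ := (h.symm ▸ Subgroup.mem_top (q g) : q g ∈ ψ.ker.map q)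
        exact ⟨n, hn, n⁻¹ * g, QuotientGroup.eq.1 hn', by group⟩
      obtain ⟨n, hn, z, hz, rfl⟩ := hdec g
      obtain ⟨n', hn', z', hz', rfl⟩ := hdec g'
      rw [MonoidHom.mem_ker] at hn hn' ⊢
      rw [map_commutatorElement, map_mul, map_mul, hn, hn', one_mul, one_mul,
        ← map_commutatorElement, commutatorElement_eq_one_iff_commute.2
          (Subgroup.mem_center_iff.1 hz z').symm, map_one]
  have hle : ψ.ker ≤ q.ker := hker.trans (QuotientGroup.ker_mk' _).ge
  exact ConjFun.involves_of_surjective ψ.range ((QuotientGroup.lift ψ.ker q hle).comp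
    (QuotientGroup.quotientKerEquivRange ψ).symm.toMonoidHom)
    ((QuotientGroup.lift_surjective_of_surjective _ _ (QuotientGroup.mk'_surjective _) hle).comp
      (MulEquiv.surjective _))

end involves

end Cfsg.Agent.EquivariantZJ
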