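import Cfsg.Agent.Lib.EquivariantZJ.Linear
import Cfsg.Agent.Lib.Coprime.FixedProduct
import Mathlib.Algebra.Module.ZMod

/-!
Automorphism groups of a `p`-group, `p ≥ 5`: a quadratic element outside the `p`-core forces even
order, and a section `PSL(2, p)` in the fixed points of a coprime solvable group.
-/

set_option autoImplicit false
set_option linter.unusedSectionVars false

universe u w

namespace Cfsg.Agent.EquivariantZJ

open Cfsg

/-- `x` lies in no `p`-subgroup of `H` that `H` normalises. -/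
def OutsideCore (p : ℕ) {W : Type*} [Group W] (H : Subgroup W) (x : W) : Prop :=
  ∀ N : Subgroup W, IsPGroup p N → N ≤ H → H ≤ Subgroup.normalizer (N : Set W) → x ∉ N

section lift

variable {L W : Type*} [Group L] [Finite L] [Group W]

theorem involves_of_hom {X : Type*} [Group X] {S : Subgroup L} {T : Subgroup W} (ρ : L →* W)
    (hle : ∀ s ∈ S, ρ s ∈ T) (hsurj : ∀ t ∈ T, ∃ s ∈ S, ρ s = t) (h : Cfsg.Involves X T) :
    Cfsg.Involves X S := by
  refine ConjFun.involves_trans h (ConjFun.involves_of_surjective ⊤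
    (((ρ.comp S.subtype).codRestrict T fun s => hle s s.2).comp (⊤ : Subgroup S).subtype) ?_)
  rintro ⟨t, ht⟩
  obtain ⟨s, hs, rfl⟩ := hsurj t ht
  exact ⟨⟨⟨s, hs⟩, trivial⟩, rfl⟩

/-- Fixed points of a coprime group cover those of the image. -/
theorem involves_lift {X : Type*} [Group X] (ρ : L →* W) {H B : Subgroup L}
    (hBH : B ≤ Subgroup.normalizer (H : Set L)) (hcop : (Nat.card B).Coprime (Nat.card H))
    (hs : Group.IsSolvable B)
    (h : Cfsg.Involves X ↥(H.map ρ ⊓ Subgroup.centralizer (B.map ρ : Set W))) :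
    Cfsg.Involves X ↥(H ⊓ Subgroup.centralizer (B : Set L)) := by
  refine involves_of_hom ρ (fun s hs' => ?_) (fun t ht => ?_) h
  · obtain ⟨h1, h2⟩ := Subgroup.mem_inf.1 hs'
    refine Subgroup.mem_inf.2 ⟨Subgroup.mem_map_of_mem ρ h1, Subgroup.mem_centralizer_iff.2 ?_⟩
    rintro _ ⟨b, hb, rfl⟩
    rw [← map_mul, ← map_mul, Subgroup.mem_centralizer_iff.1 h2 b hb]
  · obtain ⟨h1, h2⟩ := Subgroup.mem_inf.1 ht
    obtain ⟨k, hk, rfl⟩ := h1
    have hN : B ≤ Subgroup.normalizer ((H ⊓ ρ.ker : Subgroup L) : Set L) := fun b hb =>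
      Subgroup.inf_normalizer_le_normalizer_inf
        ⟨hBH hb, by rw [Subgroup.normalizer_eq_top]; exact Subgroup.mem_top b⟩
    have hkB : ∀ b ∈ B, k⁻¹ * b * k * b⁻¹ ∈ H ⊓ ρ.ker := fun b hb => by
      refine Subgroup.mem_inf.2 ⟨?_, MonoidHom.mem_ker.2 ?_⟩
      · rw [mul_assoc, mul_assoc, ← mul_assoc b]
        exact mul_mem (inv_mem hk) ((Subgroup.mem_normalizer_iff.1 (hBH hb) k).1 hk)
      · have h3 := Subgroup.mem_centralizer_iff.1 h2 _ (Subgroup.mem_map_of_mem ρ hb)
        rw [map_mul, map_mul, map_mul, map_inv, map_inv, mul_assoc _ (ρ b), h3, ← mul_assoc,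
          inv_mul_cancel, one_mul, mul_inv_cancel]
    obtain ⟨c, hc, hck⟩ := Coprime.exists_mem_inf_centralizer_leftCoset hN inf_le_left hcop
      (Or.inl hs) hk hkB
    have h3 : ρ (k⁻¹ * c) = 1 := (Subgroup.mem_inf.1 hck).2
    rw [map_mul, map_inv] at h3
    exact ⟨c, hc, (inv_mul_eq_one.1 h3).symm⟩

end lift

section abelian

/-- An automorphism group of an elementary abelian group as linear maps. -/
noncomputable def toLinear (p : ℕ) (V : Type*) [CommGroup V] [Module (ZMod p) (Additive V)] :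
    MulAut V →* LinearMap.GeneralLinearGroup (ZMod p) (Additive V) :=
  MonoidHom.toHomUnits
    { toFun := fun f => (MonoidHom.toAdditive f.toMonoidHom).toZModLinearMap p
      map_one' := LinearMap.ext fun _ => rfl
      map_mul' := fun _ _ => LinearMap.ext fun _ => rfl }

theorem toLinear_apply {p : ℕ} {V : Type*} [CommGroup V] [Module (ZMod p) (Additive V)]
    (f : MulAut V) (v : V) :
    (toLinear p V f : Module.End (ZMod p) (Additive V)) (Additive.ofMul v) = Additive.ofMul (f v) :=
  rfl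

theorem toLinear_injective (p : ℕ) (V : Type*) [CommGroup V] [Module (ZMod p) (Additive V)] :
    Function.Injective (toLinear p V) := fun f g h => MulEquiv.ext fun v => by
  have h1 := toLinear_apply (p := p) f v
  rw [h, toLinear_apply] at h1
  exact (Additive.ofMul.injective h1).symm

theorem of_elementary {p : ℕ} [Fact p.Prime] (hp : 5 ≤ p) {V : Type u} [CommGroup V] [Finite V]
    (hexp : ∀ v : V, v ^ p = 1) {H B : Subgroup (MulAut V)}
    (hBH : B ≤ Subgroup.normalizer (H : Set (MulAut V)))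
    (hcop : (Nat.card B).Coprime (Nat.card H)) (hV : ∃ v : V, v ≠ 1)
    (hmin : ∀ U : Subgroup V, U ≠ ⊥ → U ≠ ⊤ → ∃ f ∈ H ⊔ B, ∃ v ∈ U, f v ∉ U)
    {x : MulAut V} (hx : x ∈ H) (hq : ∀ v, x (v⁻¹ * x v) = v⁻¹ * x v) (hx1 : x ≠ 1)
    {F : Type w} [Field F] [Fintype F] (hF : Fintype.card F = p) :
    Even (Nat.card H) ∧ (Group.IsSolvable B →
      Cfsg.Involves (Matrix.ProjectiveSpecialLinearGroup (Fin 2) F)
        ↥(H ⊓ Subgroup.centralizer (B : Set (MulAut V)))) := by
  let _ : Module (ZMod p) (Additive V) := AddCommGroup.zmodModule fun v => hexp v.toMul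
  have : Finite (Additive V) := Finite.of_equiv V Additive.ofMul
  set ρ := toLinear p V with hρ
  have hinj := toLinear_injective p V
  have hirr : IsIrreducibleFor (H.map ρ ⊔ B.map ρ) := by
    rw [← Subgroup.map_sup]
    refine ⟨hV.imp' Additive.ofMul fun v hv h => hv (Additive.ofMul.injective h), ?_⟩
    intro W hW
    let U : Subgroup V := AddSubgroup.toSubgroup' W.toAddSubgroup
    by_contra hne
    have hU0 : U ≠ ⊥ := by
      intro h
      refine hne (Or.inl ?_)
      rw [Submodule.eq_bot_iff]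
      intro m hm
      have h1 : Additive.toMul m ∈ U := hm
      rw [h, Subgroup.mem_bot] at h1
      exact Additive.toMul.injective h1
    have hU1 : U ≠ ⊤ := by
      intro h
      refine hne (Or.inr ?_)
      rw [Submodule.eq_top_iff']
      intro m
      have h1 : Additive.toMul m ∈ U := by rw [h]; exact Subgroup.mem_top _
      exact h1
    obtain ⟨f, hf, v, hv, hfv⟩ := hmin U hU0 hU1
    exact hfv (hW _ (Subgroup.mem_map_of_mem ρ hf) _ hv)
  have hnorm : B.map ρ ≤ Subgroup.normalizer (H.map ρ : Set _) := by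
    rintro _ ⟨b, hb, rfl⟩
    refine Subgroup.le_normalizer_map ρ ⟨b, hBH hb, rfl⟩
  have hc : ∀ K : Subgroup (MulAut V), Nat.card (K.map ρ) = Nat.card K := fun K =>
    Subgroup.card_map_of_injective hinj
  obtain ⟨heven, hsol⟩ := even_and_exists_hom hp hnorm (by rwa [hc, hc]) hirr
    (Subgroup.mem_map_of_mem ρ hx) (LinearMap.ext fun m => by
      obtain ⟨v, rfl⟩ := Additive.ofMul.surjective m
      show (ρ x : Module.End (ZMod p) (Additive V))
          ((ρ x : Module.End (ZMod p) (Additive V)) (Additive.ofMul v) - Additive.ofMul v) -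
          ((ρ x : Module.End (ZMod p) (Additive V)) (Additive.ofMul v) - Additive.ofMul v) = 0
      rw [hρ, toLinear_apply, ← ofMul_div, toLinear_apply, sub_eq_zero]
      rw [div_eq_mul_inv, mul_comm, hq])
    (fun h => hx1 (hinj (h.trans (map_one ρ).symm)))
  rw [hc] at heven
  refine ⟨heven, fun hs => involves_lift ρ hBH hcop hs ?_⟩
  obtain ⟨Φ, hΦ, hΦK⟩ := hsol (Coprime.isSolvable_map ρ B hs)
  exact involves_psl hp Φ hΦ _ hΦK hF

end abelian

section series

theorem pow_apply_of_fixed {V : Type*} [Group V] {g : MulAut V} {v u : V} (h : g v = v * u)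
    (hu : g u = u) : ∀ n : ℕ, (g ^ n) v = v * u ^ n := by
  intro n
  induction n with
  | zero => simp
  | succ n ih =>
    rw [pow_succ', MulAut.mul_apply, ih, map_mul, map_pow, h, hu, pow_succ', mul_assoc]

/-- A quadratic element outside the core gives even order and a section `PSL(2, p)`. -/
theorem even_and_involves.{v, z} {p : ℕ} [Fact p.Prime] (hp : 5 ≤ p) {F : Type z} [Field F]
    [Fintype F] (hF : Fintype.card F = p) : ∀ (n : ℕ) {V : Type v} [Group V] [Finite V],
    Nat.card V = n → IsPGroup p V → ∀ {H B : Subgroup (MulAut V)},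
    B ≤ Subgroup.normalizer (H : Set (MulAut V)) → (Nat.card B).Coprime (Nat.card H) →
    ∀ {x : MulAut V}, x ∈ H → (∀ v, x (v⁻¹ * x v) = v⁻¹ * x v) → OutsideCore p H x →
    Even (Nat.card H) ∧ (Group.IsSolvable B →
      Cfsg.Involves (Matrix.ProjectiveSpecialLinearGroup (Fin 2) F)
        ↥(H ⊓ Subgroup.centralizer (B : Set (MulAut V)))) := by
  intro n
  induction n using Nat.strong_induction_on with
  | _ n ih =>
  intro V _ _ hn hV H B hBH hcop x hx hq hout
  have hx1 : x ≠ 1 := fun e => hout ⊥ IsPGroup.of_bot bot_le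
    (by rw [Subgroup.normalizer_eq_top]; exact le_top) (Subgroup.mem_bot.2 e)
  by_cases hex : ∃ U : Subgroup V, U.Normal ∧ U ≠ ⊥ ∧ U ≠ ⊤ ∧ ∀ f ∈ H ⊔ B, ∀ v ∈ U, f v ∈ U
  · obtain ⟨U, hUn, hU0, hU1, hU⟩ := hex
    set L := H ⊔ B with hL
    let H' := H.subgroupOf L
    let B' := B.subgroupOf L
    let x' : L := ⟨x, Subgroup.mem_sup_left hx⟩
    let ρ₁ : L →* MulAut U :=
      Coprime.FixedProduct.restrict L.subtype U fun f v hv => hU f f.2 v hv
    let ρ₂ : L →* MulAut (V ⧸ U) :=
      Coprime.FixedProduct.quotient L.subtype U fun f v hv => hU f f.2 v hv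
    have hBH' : B' ≤ Subgroup.normalizer (H' : Set L) :=
      Coprime.coe_normalizer_subgroupOf_le le_sup_left hBH
    have hcop' : (Nat.card B').Coprime (Nat.card H') := by
      rwa [Coprime.card_subgroupOf le_sup_right, Coprime.card_subgroupOf le_sup_left]
    have hfin : Finite L := inferInstance
    -- one of the two induced actions keeps the element outside the core
    have key : OutsideCore p (H'.map ρ₁) (ρ₁ x') ∨ OutsideCore p (H'.map ρ₂) (ρ₂ x') := by
      by_contra hcon
      simp only [not_or, OutsideCore, not_forall, not_not] at hcon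
      obtain ⟨⟨N₁, hN₁, -, hn₁, hx₁⟩, N₂, hN₂, -, hn₂, hx₂⟩ := hcon
      set N := H' ⊓ (N₁.comap ρ₁ ⊓ N₂.comap ρ₂) with hN
      refine hout (N.map L.subtype) ?_ ?_ ?_ ⟨x', Subgroup.mem_inf.2 ⟨hx, hx₁, hx₂⟩, rfl⟩
      · refine IsPGroup.map ?_ L.subtype
        rintro ⟨g, hg⟩
        obtain ⟨-, hg1, hg2⟩ := Subgroup.mem_inf.1 hg
        obtain ⟨i, hi⟩ := hN₁ ⟨_, hg1⟩
        obtain ⟨j, hj⟩ := hN₂ ⟨_, hg2⟩
        obtain ⟨k, hk⟩ := (IsPGroup.iff_card.1 (hV.to_subgroup U))
        refine ⟨i + j + k, Subtype.ext ?_⟩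
        have h1 : ρ₁ (g ^ p ^ (i + j)) = 1 := by
          rw [map_pow, pow_add, pow_mul, show ρ₁ g ^ p ^ i = 1 from congrArg Subtype.val hi, one_pow]
        have h2 : ρ₂ (g ^ p ^ (i + j)) = 1 := by
          rw [map_pow, pow_add, mul_comm, pow_mul, show ρ₂ g ^ p ^ j = 1 from congrArg Subtype.val hj,
            one_pow]
        show g ^ p ^ (i + j + k) = 1
        rw [pow_add, pow_mul]
        refine Subtype.ext (MulEquiv.ext fun v => ?_)
        set f := g ^ p ^ (i + j)
        have hfix : ∀ u ∈ U, (f : MulAut V) u = u := fun u hu =>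
          congrArg (fun e : MulAut U => ((e ⟨u, hu⟩ : U) : V)) h1
        have hv : v⁻¹ * (f : MulAut V) v ∈ U :=
          QuotientGroup.eq.1 ((congrArg (fun e : MulAut (V ⧸ U) => e (v : V ⧸ U)) h2).symm)
        rw [SubgroupClass.coe_pow, pow_apply_of_fixed (u := v⁻¹ * (f : MulAut V) v)
          (by rw [mul_inv_cancel_left]) (hfix _ hv) (p ^ k), ← hk]
        have h3 : (v⁻¹ * (f : MulAut V) v) ^ Nat.card U = 1 :=
          congrArg Subtype.val (pow_card_eq_one' (x := (⟨_, hv⟩ : U)))
        rw [h3, mul_one]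
        rfl
      · rintro _ ⟨g, hg, rfl⟩
        exact (Subgroup.mem_inf.1 hg).1
      · intro h hh
        have key : ∀ h : L, h ∈ H' → ∀ g ∈ N, h * g * h⁻¹ ∈ N := by
          intro h hh g hg
          obtain ⟨g0, g1, g2⟩ := Subgroup.mem_inf.1 hg
          refine Subgroup.mem_inf.2 ⟨mul_mem (mul_mem hh g0) (inv_mem hh), ?_, ?_⟩
          · show ρ₁ (h * g * h⁻¹) ∈ N₁
            rw [map_mul, map_mul, map_inv]
            exact (Subgroup.mem_normalizer_iff.1 (hn₁ (Subgroup.mem_map_of_mem ρ₁ hh)) _).1 g1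
          · show ρ₂ (h * g * h⁻¹) ∈ N₂
            rw [map_mul, map_mul, map_inv]
            exact (Subgroup.mem_normalizer_iff.1 (hn₂ (Subgroup.mem_map_of_mem ρ₂ hh)) _).1 g2
        refine Subgroup.mem_normalizer_iff.2 fun g => ⟨?_, ?_⟩
        · rintro ⟨g, hg, rfl⟩
          exact ⟨_, key ⟨h, Subgroup.mem_sup_left hh⟩ hh g hg, rfl⟩
        · rintro ⟨g', hg, e⟩
          refine ⟨_, key ⟨h⁻¹, Subgroup.mem_sup_left (inv_mem hh)⟩ (inv_mem hh) g' hg, ?_⟩
          show h⁻¹ * (g' : MulAut V) * h⁻¹⁻¹ = g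
          rw [show (g' : MulAut V) = h * g * h⁻¹ from e]
          group
    have step : ∀ {Y : Type v} [Group Y] [Finite Y] (ρ : L →* MulAut Y), Nat.card Y < n →
        IsPGroup p Y → (∀ y, ρ x' (y⁻¹ * ρ x' y) = y⁻¹ * ρ x' y) →
        OutsideCore p (H'.map ρ) (ρ x') → Even (Nat.card H) ∧ (Group.IsSolvable B →
          Cfsg.Involves (Matrix.ProjectiveSpecialLinearGroup (Fin 2) F)
            ↥(H ⊓ Subgroup.centralizer (B : Set (MulAut V)))) := by
      intro Y _ _ ρ hlt hY hqY houtY
      have hnorm : B'.map ρ ≤ Subgroup.normalizer (H'.map ρ : Set (MulAut Y)) := by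
        rintro _ ⟨b, hb, rfl⟩
        exact Subgroup.le_normalizer_map ρ ⟨b, hBH' hb, rfl⟩
      have hdH : Nat.card (H'.map ρ) ∣ Nat.card H' := Subgroup.card_map_dvd H' ρ
      obtain ⟨he, hi⟩ := ih _ hlt rfl hY hnorm
        ((hcop'.coprime_dvd_left (Subgroup.card_map_dvd B' ρ)).coprime_dvd_right hdH)
        (Subgroup.mem_map_of_mem ρ (show x' ∈ H' from hx)) hqY houtY
      refine ⟨?_, fun hs => ?_⟩
      · rw [← Coprime.card_subgroupOf (P := L) (le_sup_left : H ≤ L)]
        exact even_iff_two_dvd.2 ((even_iff_two_dvd.1 he).trans hdH)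
      · have hs' : Group.IsSolvable B' := Coprime.isSolvable_subgroupOf le_sup_right hs
        have h1 := involves_lift ρ hBH' hcop' hs' (hi (Coprime.isSolvable_map ρ B' hs'))
        refine ConjFun.involves_trans h1 ?_
        have hle : (H' ⊓ Subgroup.centralizer (B' : Set L)).map L.subtype ≤
            H ⊓ Subgroup.centralizer (B : Set (MulAut V)) := by
          rintro _ ⟨g, hg, rfl⟩
          obtain ⟨g1, g2⟩ := Subgroup.mem_inf.1 hg
          exact Subgroup.mem_inf.2 ⟨g1, Subgroup.mem_centralizer_iff.2 fun b hb =>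
            congrArg Subtype.val (Subgroup.mem_centralizer_iff.1 g2 ⟨b, Subgroup.mem_sup_right hb⟩ hb)⟩
        let e := ((H' ⊓ Subgroup.centralizer (B' : Set L)).equivMapOfInjective L.subtype
          L.subtype_injective).trans (Subgroup.subgroupOfEquivOfLe hle).symm
        exact ConjFun.involves_of_surjective _ e.symm.toMonoidHom e.symm.surjective
    rcases key with hk | hk
    · exact step ρ₁ (hn ▸ ConjFun.card_lt_of_ne_top hU1) (hV.to_subgroup U)
        (fun y => Subtype.ext (hq y.1)) hk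
    · exact step ρ₂ (hn ▸ ConjFun.card_quotient_lt hU0) (hV.to_quotient U)
        (fun y => QuotientGroup.induction_on y fun v =>
          (congrArg (fun t : V => (t : V ⧸ U)) (hq v) :)) hk
  · push Not at hex
    have : Nontrivial V := by
      by_contra h
      rw [not_nontrivial_iff_subsingleton] at h
      exact hx1 (MulEquiv.ext fun v => Subsingleton.elim _ _)
    have hZ : Subgroup.center V = ⊤ := by
      by_contra h
      obtain ⟨f, -, v, hv, hfv⟩ := hex _ inferInstance hV.bot_lt_center.ne' h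
      exact hfv ((Subgroup.characteristic_iff_le_map.1 inferInstance f.symm hv).elim
        fun w hw => by rw [← hw.2]; simpa using hw.1)
    let _ : CommGroup V :=
      { (inferInstance : Group V) with
        mul_comm := fun a b => Subgroup.mem_center_iff.1 (hZ ▸ Subgroup.mem_top b) a }
    let O : Subgroup V := (powMonoidHom p : V →* V).ker
    have hO : O = ⊤ := by
      by_contra h
      have hO0 : O ≠ ⊥ := by
        obtain ⟨k, hk0, hk⟩ := (IsPGroup.nontrivial_iff_card hV).1 inferInstance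
        obtain ⟨v, hv⟩ := exists_prime_orderOf_dvd_card' p (hk ▸ dvd_pow_self p hk0.ne')
        refine fun hbot => (Fact.out : p.Prime).one_lt.ne' ?_
        have hvO : v ∈ O := by
          show v ^ p = 1
          rw [← hv, pow_orderOf_eq_one]
        rw [hbot, Subgroup.mem_bot] at hvO
        rw [← hv, hvO, orderOf_one]
      obtain ⟨f, -, v, hv, hfv⟩ := hex O inferInstance hO0 h
      refine hfv ?_
      show f v ^ p = 1
      rw [← map_pow, show v ^ p = 1 from hv, map_one]
    refine of_elementary hp (fun v => (hO.symm ▸ Subgroup.mem_top v : v ∈ O)) hBH hcop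
      (exists_ne 1) (fun U hU0 hU1 => hex U inferInstance hU0 hU1) hx hq hx1 hF

end series

end Cfsg.Agent.EquivariantZJ
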