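import Mathlib

/-!
In a space of endomorphisms containing `1`, closed under squares and with all nonzero members
invertible (finite, odd characteristic), a square has only two roots.
-/

set_option autoImplicit false

namespace Cfsg.Agent.EquivariantZJ

open Polynomial

variable {p : ℕ} [Fact p.Prime] {E : Type*} [Ring E] [Algebra (ZMod p) E]

/-- Two roots of one square are equal up to sign. -/
theorem eq_or_eq_neg_of_sq [Finite E] (hp2 : p ≠ 2) (V : Submodule (ZMod p) E) (h1 : (1 : E) ∈ V)
    (hsq : ∀ x ∈ V, x * x ∈ V) (hunit : ∀ x ∈ V, x ≠ 0 → IsUnit x) {u v : E} (hu : u ∈ V)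
    (hv : v ∈ V) (h : u * u = v * v) : v = u ∨ v = -u := by
  have h2 : (2 : ZMod p) ≠ 0 := by
    intro e
    have h' : ((2 : ℕ) : ZMod p) = 0 := by exact_mod_cast e
    rw [ZMod.natCast_eq_zero_iff] at h'
    exact hp2 ((Nat.prime_dvd_prime_iff_eq Fact.out Nat.prime_two).1 h')
  have half : ∀ x : E, x + x ∈ V → x ∈ V := fun x hx => by
    have := V.smul_mem (2 : ZMod p)⁻¹ hx
    rwa [← two_smul (ZMod p) x, smul_smul, inv_mul_cancel₀ h2, one_smul] at this
  have cancel2 : ∀ x : E, x + x = 0 → x = 0 := fun x hx => by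
    rw [← two_smul (ZMod p) x] at hx
    have := congrArg ((2 : ZMod p)⁻¹ • ·) hx
    simpa [smul_smul, inv_mul_cancel₀ h2] using this
  have jor : ∀ x ∈ V, ∀ y ∈ V, x * y + y * x ∈ V := fun x hx y hy => by
    have := V.sub_mem (V.sub_mem (hsq _ (V.add_mem hx hy)) (hsq x hx)) (hsq y hy)
    rwa [show (x + y) * (x + y) - x * x - y * y = x * y + y * x by noncomm_ring] at this
  have triple : ∀ x ∈ V, ∀ y ∈ V, x * y * x ∈ V := fun x hx y hy => by
    refine half _ ?_
    have := V.sub_mem (jor x hx _ (jor x hx y hy)) (jor _ (hsq x hx) y hy)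
    rwa [show x * (x * y + y * x) + (x * y + y * x) * x - (x * x * y + y * (x * x)) =
      x * y * x + x * y * x by noncomm_ring] at this
  have hpow : ∀ x ∈ V, ∀ n : ℕ, x ^ n ∈ V := by
    intro x hx n
    induction n using Nat.twoStepInduction with
    | zero => simpa using h1
    | one => simpa using hx
    | more n ih _ => rw [pow_succ, pow_succ']; exact triple x hx _ ih
  by_contra hne
  push Not at hne
  set w := u + v with hwdef
  set z := u - v with hzdef
  have hw : w ∈ V := V.add_mem hu hv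
  have hz : z ∈ V := V.sub_mem hu hv
  have hw0 : w ≠ 0 := fun e => hne.2 (eq_neg_of_add_eq_zero_right e)
  have hz0 : z ≠ 0 := fun e => hne.1 (sub_eq_zero.1 e).symm
  have hanti : z * w = -(w * z) := by
    rw [eq_neg_iff_add_eq_zero, hwdef, hzdef,
      show (u - v) * (u + v) + (u + v) * (u - v) = (u * u - v * v) + (u * u - v * v) by noncomm_ring,
      h, sub_self, add_zero]
  have : Nontrivial E := ⟨⟨w, 0, hw0⟩⟩
  clear_value w z
  clear hwdef hzdef
  have hwwz : Commute (w * w) z := by
    show w * w * z = z * (w * w)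
    rw [← mul_assoc z, hanti, neg_mul, mul_assoc w z, hanti, mul_neg, neg_neg, mul_assoc]
  have hzzw : Commute (z * z) w := by
    show z * z * w = w * (z * z)
    rw [mul_assoc z, hanti, mul_neg, ← mul_assoc z, hanti, neg_mul, neg_neg, mul_assoc]
  set c := w * w with hc
  set d := z * z with hd
  have hcd : Commute c d := hwwz.mul_right hwwz
  -- the field generated by `c` and `d`
  set T := Algebra.adjoin (ZMod p) ({c, d} : Set E) with hT
  have hTcent : T ≤ Subalgebra.centralizer (ZMod p) ({w, z} : Set E) := by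
    refine Algebra.adjoin_le ?_
    intro t ht g hg
    simp only [Set.mem_insert_iff, Set.mem_singleton_iff] at ht hg
    rcases ht with e | e <;> rcases hg with e' | e' <;> rw [e, e']
    · show w * c = c * w
      rw [hc, mul_assoc]
    · exact hwwz.symm
    · exact hzzw.symm
    · show z * d = d * z
      rw [hd, mul_assoc]
  have hTw : ∀ t ∈ T, t * w = w * t := fun t ht => (hTcent ht w (by simp)).symm
  have hTz : ∀ t ∈ T, t * z = z * t := fun t ht => (hTcent ht z (by simp)).symm
  have hTV : ∀ t ∈ T, t ∈ V := by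
    intro t ht
    have ht' : t ∈ Subalgebra.toSubmodule T := ht
    rw [hT, Algebra.adjoin_eq_span] at ht'
    refine (Submodule.span_le.2 ?_) ht'
    intro m hm
    have key : ∃ i j : ℕ, m = c ^ i * d ^ j := by
      induction hm using Submonoid.closure_induction with
      | mem m hm =>
        rcases hm with rfl | rfl
        · exact ⟨1, 0, by simp⟩
        · exact ⟨0, 1, by simp⟩
      | one => exact ⟨0, 0, by simp⟩
      | mul a b _ _ ha hb =>
        obtain ⟨i, j, rfl⟩ := ha
        obtain ⟨i', j', rfl⟩ := hb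
        exact ⟨i + i', j + j', by
          rw [pow_add, pow_add, mul_assoc, ← mul_assoc (d ^ j), ← (hcd.pow_pow i' j).eq,
            mul_assoc, mul_assoc]⟩
    obtain ⟨i, j, rfl⟩ := key
    have hd' : d ^ j ∈ V := hpow d (hsq z hz) j
    have := triple _ (hpow w hw i) _ hd'
    rwa [mul_assoc, ((hzzw.pow_left j).pow_right i).eq, ← mul_assoc, ← pow_add, ← two_mul,
      pow_mul, sq] at this
  have hTmul : ∀ t ∈ T, ∀ x ∈ ({w, z} : Set E), t * x ∈ V := by
    intro t ht x hx
    have hxV : x ∈ V := by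
      rcases hx with e | e
      · exact e ▸ hw
      · exact (Set.mem_singleton_iff.1 e) ▸ hz
    refine half _ ?_
    have := jor t (hTV t ht) x hxV
    rwa [hTcent ht x hx] at this
  let instT : CommRing T := Algebra.adjoinCommRingOfComm (ZMod p) (by
    rintro a (rfl | rfl) b (rfl | rfl)
    exacts [rfl, hcd, hcd.symm, rfl])
  have : IsDomain T := by
    have : Nontrivial T := ⟨⟨0, 1, fun e => hw0 (by
      have e' : (0 : E) = 1 := congrArg Subtype.val e
      rw [← one_mul w, ← e', zero_mul])⟩⟩
    have : NoZeroDivisors T := ⟨fun {a b} hab => by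
      by_contra hcon
      push Not at hcon
      have ha := hunit a.1 (hTV a a.2) (fun e => hcon.1 (Subtype.ext e))
      exact hcon.2 (Subtype.ext (ha.mul_right_eq_zero.1 (congrArg Subtype.val hab)))⟩
    exact NoZeroDivisors.to_isDomain T
  have : Finite T := Subtype.finite
  let _ : Fintype T := Fintype.ofFinite T
  have hodd : Fintype.card T % 2 = 1 := by
    rw [Module.card_eq_pow_finrank (K := ZMod p), ZMod.card, ← Nat.odd_iff]
    exact (Fact.out : p.Prime).odd_of_ne_two hp2 |>.pow
  set cT : T := ⟨c, Algebra.subset_adjoin (by simp)⟩ with hcT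
  set dT : T := ⟨d, Algebra.subset_adjoin (by simp)⟩ with hdT
  have hc0 : cT ≠ 0 := fun e => by
    have e' : c = 0 := congrArg Subtype.val e
    exact ((hunit w hw hw0).mul (hunit w hw hw0)).ne_zero e'
  have hd0 : dT ≠ 0 := fun e => by
    have e' : d = 0 := congrArg Subtype.val e
    exact ((hunit z hz hz0).mul (hunit z hz hz0)).ne_zero e'
  obtain ⟨x, y, hxy⟩ := FiniteField.exists_root_sum_quadratic
    (f := Polynomial.C cT * X ^ 2) (g := Polynomial.C dT * X ^ 2 - 1)
    (degree_C_mul_X_pow 2 hc0)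
    (by rw [← map_one Polynomial.C, degree_sub_C (by rw [degree_C_mul_X_pow 2 hd0]; norm_num),
          degree_C_mul_X_pow 2 hd0]; rfl) hodd
  have hxy' : c * (x.1 * x.1) + (d * (y.1 * y.1) - 1) = 0 := by
    have := congrArg Subtype.val hxy
    simpa [sq] using this
  set r := x.1 * w + y.1 * z with hr
  have hrV : r ∈ V := V.add_mem (hTmul _ x.2 w (by simp)) (hTmul _ y.2 z (by simp))
  have hxyc : Commute x.1 y.1 := congrArg Subtype.val (mul_comm x y)
  have hr2 : (r - 1) * (r + 1) = 0 := by
    have e1 : x.1 * w * (x.1 * w) = c * (x.1 * x.1) := by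
      rw [mul_assoc, ← mul_assoc w, ← hTw _ x.2, mul_assoc, ← hc, ← mul_assoc]
      exact congrArg Subtype.val (mul_comm (x * x) cT)
    have e2 : y.1 * z * (y.1 * z) = d * (y.1 * y.1) := by
      rw [mul_assoc, ← mul_assoc z, ← hTz _ y.2, mul_assoc, ← hd, ← mul_assoc]
      exact congrArg Subtype.val (mul_comm (y * y) dT)
    have e3 : x.1 * w * (y.1 * z) + y.1 * z * (x.1 * w) = 0 := by
      rw [mul_assoc, ← mul_assoc w, ← hTw _ y.2, mul_assoc, mul_assoc y.1, ← mul_assoc z,
        ← hTz _ x.2, mul_assoc x.1 z, ← mul_assoc, ← mul_assoc y.1, ← hxyc.eq, ← mul_add, hanti,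
        add_neg_cancel, mul_zero]
    calc (r - 1) * (r + 1)
        = x.1 * w * (x.1 * w) + (y.1 * z * (y.1 * z) - 1) +
            (x.1 * w * (y.1 * z) + y.1 * z * (x.1 * w)) := by rw [hr]; noncomm_ring
      _ = 0 := by rw [e1, e2, e3, hxy', add_zero]
  have hrcomm : r * w = w * r := by
    by_cases e : r - 1 = 0
    · rw [sub_eq_zero.1 e, one_mul, mul_one]
    · have := (hunit _ (V.sub_mem hrV h1) e).mul_right_eq_zero.1 hr2
      rw [eq_neg_of_add_eq_zero_left this, neg_one_mul, mul_neg_one]
  have hy0 : y.1 = 0 := by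
    have e : y.1 * (w * z) + y.1 * (w * z) = 0 := by
      rw [hr, add_mul, mul_add, mul_assoc, mul_assoc, ← mul_assoc w x.1, ← hTw _ x.2, mul_assoc,
        ← mul_assoc w y.1, ← hTw _ y.2, mul_assoc y.1 w, hanti, mul_neg] at hrcomm
      have := add_left_cancel hrcomm
      rw [← eq_neg_iff_add_eq_zero]
      exact this.symm
    exact ((hunit w hw hw0).mul (hunit z hz hz0)).mul_left_eq_zero.1 (cancel2 _ e)
  have hxw : (r : E) = x.1 * w := by rw [hr, hy0, zero_mul, add_zero]
  have hx0 : x.1 ≠ 0 := by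
    intro e
    rw [hxw, e, zero_mul, zero_sub, zero_add, mul_one, neg_eq_zero] at hr2
    exact hw0 (by rw [← one_mul w, hr2, zero_mul])
  have hrz : r * z = z * r := by
    by_cases e : r - 1 = 0
    · rw [sub_eq_zero.1 e, one_mul, mul_one]
    · have := (hunit _ (V.sub_mem hrV h1) e).mul_right_eq_zero.1 hr2
      rw [eq_neg_of_add_eq_zero_left this, neg_one_mul, mul_neg_one]
  rw [hxw, mul_assoc, ← mul_assoc z, ← hTz _ x.2, mul_assoc, hanti, mul_neg] at hrz
  refine ((hunit w hw hw0).mul (hunit z hz hz0)).ne_zero ?_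
  exact (hunit _ (hTV _ x.2) hx0).mul_right_eq_zero.1 (cancel2 _ (eq_neg_iff_add_eq_zero.1 hrz))

end Cfsg.Agent.EquivariantZJ
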