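import Cfsg.Agent.Lib.EquivariantZJ.Series
import Cfsg.Agent.Lib.Replacement.Constrained
import Cfsg.Agent.S0205

/-!
Glauberman's `ZJ` argument relative to a coprime operator group: it only uses invariant normal
`p`-subgroups, on which quadratic elements lie in the core unless the fixed points involve
`PSL(2, p)`.
-/

set_option autoImplicit false
set_option linter.unusedSectionVars false

universe u w

namespace Cfsg.Agent.EquivariantZJ

open scoped commutatorElement Pointwise
open Subgroup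

variable {G : Type u} [Group G] [Finite G] {p : ℕ} [hp : Fact p.Prime]

/-- `K` is stable under the automorphisms in `A`. -/
def Inv (A : Subgroup (MulAut G)) (K : Subgroup G) : Prop := ∀ a ∈ A, ∀ x ∈ K, a x ∈ K

theorem inv_of_characteristic (A : Subgroup (MulAut G)) (K : Subgroup G) [K.Characteristic] :
    Inv A K := fun a _ x hx =>
  (Subgroup.characteristic_iff_map_le.1 ‹K.Characteristic› a) ⟨x, hx, rfl⟩

theorem Inv.map_eq {A : Subgroup (MulAut G)} {K : Subgroup G} (h : Inv A K) {a : MulAut G}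
    (ha : a ∈ A) : K.map a.toMonoidHom = K := by
  refine le_antisymm ?_ fun x hx => ⟨a⁻¹ x, h a⁻¹ (inv_mem ha) x hx, a.apply_symm_apply x⟩
  rintro _ ⟨x, hx, rfl⟩
  exact h a ha x hx

theorem inv_of_map_eq {A : Subgroup (MulAut G)} {K : Subgroup G}
    (h : ∀ a ∈ A, K.map a.toMonoidHom = K) : Inv A K := fun a ha _ hx =>
  (h a ha).le ⟨_, hx, rfl⟩

/-- Either the operators or the group are solvable, by the odd order theorem. -/
theorem isSolvable_or {A : Subgroup (MulAut G)} (hA : (Nat.card A).Coprime (Nat.card G)) :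
    Group.IsSolvable A ∨ Group.IsSolvable G := by
  rcases Nat.even_or_odd (Nat.card G) with h | h
  · refine Or.inl (Cfsg.Agent.S0205.result ?_)
    rw [← Nat.not_even_iff_odd, even_iff_two_dvd]
    exact fun h' => absurd (Nat.eq_one_of_dvd_coprimes hA h' (even_iff_two_dvd.1 h)) (by norm_num)
  · exact Or.inr (Cfsg.Agent.S0205.result h)

/-- Fixed points of `A` cover those of the image in any equivariant quotient. -/
theorem exists_fixed_lift {A : Subgroup (MulAut G)} (hA : (Nat.card A).Coprime (Nat.card G))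
    {K : Type*} [Group K] (ρ : G →* K) (hinv : ∀ a ∈ A, ∀ x ∈ ρ.ker, a x ∈ ρ.ker) {k : G}
    (hk : ∀ a ∈ A, ρ (a k) = ρ k) : ∃ c : G, (∀ a ∈ A, a c = c) ∧ ρ c = ρ k := by
  obtain ⟨n, hn, hc⟩ := Coprime.exists_fixed_mul_mem_hom A.subtype (N := ρ.ker)
    (fun a x hx => hinv a a.2 x hx) (hA.coprime_dvd_right (Subgroup.card_subgroup_dvd_card _))
    ((isSolvable_or hA).imp_right fun h => by
      have := h
      exact Group.isSolvable_of_isSolvable_injective ρ.ker.subtype_injective)
    (k := k) fun a => by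
      show ρ (k⁻¹ * (a : MulAut G) k) = 1
      rw [map_mul, map_inv, hk a a.2, inv_mul_cancel]
  exact ⟨k * n, fun a ha => hc ⟨a, ha⟩, by rw [map_mul, MonoidHom.mem_ker.1 hn, mul_one]⟩

variable {F : Type w} [Field F] [Fintype F]

/-- Stability on the invariant normal `p`-subgroups. -/
theorem stable_of_not_involves (hp5 : 5 ≤ p) {A : Subgroup (MulAut G)}
    (hA : (Nat.card A).Coprime (Nat.card G)) {C : Subgroup G}
    (hC : ∀ g : G, g ∈ C ↔ ∀ a ∈ A, a g = g) (hF : Fintype.card F = p)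
    (hfix : ¬ Cfsg.Involves (Matrix.ProjectiveSpecialLinearGroup (Fin 2) F) ↥C)
    (V : Subgroup G) [V.Normal] (hV : IsPGroup p V) (hVA : Inv A V) {x : G}
    (hq : ⁅⁅V, zpowers x⁆, zpowers x⁆ = ⊥) :
    x ∈ (pCore p (G ⧸ centralizer (V : Set G))).comap
      (QuotientGroup.mk' (centralizer (V : Set G))) := by
  classical
  set ρ : G →* MulAut V := MulAut.conjNormal with hρ
  set σ : A →* MulAut V :=
    Coprime.FixedProduct.restrict A.subtype V fun a v hv => hVA a a.2 v hv with hσ
  have hσρ : ∀ (a : A) (g : G), σ a * ρ g * (σ a)⁻¹ = ρ ((a : MulAut G) g) := by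
    intro a g
    refine mul_inv_eq_iff_eq_mul.2 (MulEquiv.ext fun v => Subtype.ext ?_)
    show (a : MulAut G) (g * v * g⁻¹) = (a : MulAut G) g * (a : MulAut G) v * ((a : MulAut G) g)⁻¹
    rw [map_mul, map_mul, map_inv]
  have hker : ρ.ker = centralizer (V : Set G) := by
    ext g
    rw [MonoidHom.mem_ker, mem_centralizer_iff]
    constructor
    · intro h v hv
      have h1 : g * v * g⁻¹ = v := congrArg (fun e : MulAut V => ((e ⟨v, hv⟩ : V) : G)) h
      exact (mul_inv_eq_iff_eq_mul.1 h1).symm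
    · intro h
      refine MulEquiv.ext fun v => Subtype.ext ?_
      show g * v * g⁻¹ = v
      rw [← h v v.2, mul_inv_cancel_right]
  by_contra hx
  have hout : OutsideCore p ρ.range (ρ x) := by
    intro N hN _ hNn hxN
    refine hx (Subgroup.mem_comap.2 ?_)
    set M := N.comap ρ
    have hMn : M.Normal := ⟨fun n hn g => by
      show ρ (g * n * g⁻¹) ∈ N
      rw [map_mul, map_mul, map_inv]
      exact (mem_normalizer_iff.1 (hNn ⟨g, rfl⟩) _).1 hn⟩
    have := hMn.map (QuotientGroup.mk' (centralizer (V : Set G))) (QuotientGroup.mk'_surjective _)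
    refine PCore.le_pCore (N := M.map (QuotientGroup.mk' (centralizer (V : Set G)))) ?_
      ⟨x, hxN, rfl⟩
    rintro ⟨_, g, hg, rfl⟩
    obtain ⟨i, hi⟩ := hN ⟨ρ g, hg⟩
    refine ⟨i, Subtype.ext ?_⟩
    show (QuotientGroup.mk' _ g) ^ p ^ i = 1
    rw [← map_pow, QuotientGroup.mk'_apply, QuotientGroup.eq_one_iff, ← hker, MonoidHom.mem_ker,
      map_pow]
    exact congrArg Subtype.val hi
  have hnorm : σ.range ≤ normalizer (ρ.range : Set (MulAut V)) := by
    rintro _ ⟨a, rfl⟩
    rw [mem_normalizer_iff]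
    refine fun e => ⟨?_, ?_⟩
    · rintro ⟨g, rfl⟩
      exact ⟨(a : MulAut G) g, (hσρ a g).symm⟩
    · rintro ⟨g, hg⟩
      refine ⟨((a⁻¹ : A) : MulAut G) g, ?_⟩
      rw [← hσρ, hg, map_inv]
      group
  have hcop : (Nat.card σ.range).Coprime (Nat.card ρ.range) :=
    (hA.coprime_dvd_left (card_range_dvd σ)).coprime_dvd_right (card_range_dvd ρ)
  have hquad : ∀ v : V, ρ x (v⁻¹ * ρ x v) = v⁻¹ * ρ x v := fun v => Subtype.ext <| by
    show x * ((v : G)⁻¹ * (x * v * x⁻¹)) * x⁻¹ = (v : G)⁻¹ * (x * v * x⁻¹)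
    have h1 : (v : G)⁻¹ * (x * v * x⁻¹) ∈ ⁅V, zpowers x⁆ := by
      have := commutator_mem_commutator (inv_mem v.2) (mem_zpowers x)
      rwa [commutatorElement_def, inv_inv, mul_assoc, mul_assoc, ← mul_assoc x] at this
    have h3 := mem_centralizer_iff.1 (commutator_eq_bot_iff_le_centralizer.1 hq h1) x (mem_zpowers x)
    rw [h3, mul_inv_cancel_right]
  obtain ⟨heven, hinvol⟩ := even_and_involves hp5 hF _ rfl hV hnorm hcop (x := ρ x) ⟨x, rfl⟩
    hquad hout
  have hodd : Odd (Nat.card A) := by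
    rw [← Nat.not_even_iff_odd, even_iff_two_dvd]
    exact fun h => absurd (Nat.eq_one_of_dvd_coprimes hA h
      ((even_iff_two_dvd.1 heven).trans (card_range_dvd ρ))) (by norm_num)
  have hsA : Group.IsSolvable A := Cfsg.Agent.S0205.result hodd
  have hs : Group.IsSolvable σ.range :=
    Group.isSolvable_of_surjective σ.rangeRestrict_surjective
  refine hfix (involves_of_hom ρ (S := C)
    (T := ρ.range ⊓ centralizer (σ.range : Set (MulAut V))) ?_ ?_ (hinvol hs))
  · intro c hc
    refine Subgroup.mem_inf.2 ⟨⟨c, rfl⟩, mem_centralizer_iff.2 ?_⟩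
    rintro _ ⟨a, rfl⟩
    rw [← mul_inv_eq_iff_eq_mul, hσρ, (hC c).1 hc a a.2]
  · intro t ht
    obtain ⟨⟨k, rfl⟩, h2⟩ := Subgroup.mem_inf.1 ht
    obtain ⟨c, hc, hck⟩ := exists_fixed_lift hA ρ (fun a ha g hg => by
        rw [MonoidHom.mem_ker] at hg ⊢
        rw [← hσρ ⟨a, ha⟩, hg, mul_one, mul_inv_cancel]) (k := k) fun a ha => by
      rw [← hσρ ⟨a, ha⟩, mul_inv_eq_iff_eq_mul]
      exact mem_centralizer_iff.1 h2 _ ⟨⟨a, ha⟩, rfl⟩
    exact ⟨c, (hC c).2 hc, hck⟩

/-- The main step, for invariant normal `p`-subgroups. -/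
theorem inf_normal (A : Subgroup (MulAut G)) (S : Sylow p G)
    (hst : ∀ (V : Subgroup G) [V.Normal], IsPGroup p V → Inv A V → ∀ a ∈ (S : Subgroup G),
      ⁅⁅V, zpowers a⁆, zpowers a⁆ = ⊥ →
        a ∈ (pCore p (G ⧸ centralizer (V : Set G))).comap
          (QuotientGroup.mk' (centralizer (V : Set G))))
    (hp2 : p ≠ 2) {W : Subgroup G} (hW : W = centerThompsonAOf (S : Subgroup G)) (hWA : Inv A W)
    (B : Subgroup G) (hBn : B.Normal) (hB : IsPGroup p B) (hBA : Inv A B) : (B ⊓ W).Normal := by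
  induction hn : Nat.card B using Nat.strong_induction_on generalizing B with
  | _ k ih =>
  subst hn
  haveI := hBn
  have hlt : ∀ T : Subgroup G, T.Normal → T ≤ B → Inv A T → T ≠ B → (T ⊓ W).Normal :=
    fun T hT hTB hTA hne' => ih _ (lt_of_not_ge fun h => hne' (eq_of_le_of_card_ge hTB h)) T hT
      (hB.to_le hTB) hTA rfl
  have hBW : Inv A (B ⊓ W) := fun a ha x hx =>
    Subgroup.mem_inf.2 ⟨hBA a ha x (Subgroup.mem_inf.1 hx).1, hWA a ha x (Subgroup.mem_inf.1 hx).2⟩
  by_cases hgen : normalClosure ((B ⊓ W : Subgroup G) : Set G) ≠ B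
  · have hle : normalClosure ((B ⊓ W : Subgroup G) : Set G) ≤ B :=
      normalClosure_le_normal inf_le_left
    have heq : normalClosure ((B ⊓ W : Subgroup G) : Set G) ⊓ W = B ⊓ W :=
      le_antisymm (inf_le_inf_right _ hle) (le_inf le_normalClosure inf_le_right)
    refine heq ▸ hlt _ normalClosure_normal hle (fun a ha x hx => ?_) hgen
    have hn : ((normalClosure ((B ⊓ W : Subgroup G) : Set G)).comap a.toMonoidHom).Normal :=
      normalClosure_normal.comap _
    exact (normalClosure_le_normal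
      (N := (normalClosure ((B ⊓ W : Subgroup G) : Set G)).comap a.toMonoidHom)
      fun y hy => le_normalClosure (hBW a ha y hy)) hx
  push Not at hgen
  by_cases hbot : B = ⊥
  · rw [hbot, bot_inf_eq]; infer_instance
  set 𝒜 := {A : Subgroup G | PGroup.IsMaxAb (S : Subgroup G) A} with h𝒜
  have hW' : W = sInf 𝒜 := by rw [hW, h𝒜, Replacement.sInf_isMaxAb]
  obtain ⟨A₀, hA₀⟩ := PGroup.exists_isMaxAb (S : Subgroup G)
  have hinv : ∀ Q : Subgroup G, Q ≤ S → ∀ n ∈ normalizer (Q : Set G), ∀ A' ∈ 𝒜, A' ≤ Q →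
      A'.map (MulAut.conj n).toMonoidHom ∈ 𝒜 := fun Q hQ n hn A' hA' hAQ =>
    Replacement.isMaxAb_conj_of_stronglyClosed S (Replacement.isStronglyClosed_self _) hQ hn hA' hAQ
  have hBS : B ≤ (S : Subgroup G) := hB.le_sylow_of_normal S
  have hWS : (S : Subgroup G) ≤ normalizer (W : Set G) := by
    intro s hs
    refine PGroup.mem_normalizer_of_map_conj_eq ?_
    rw [hW]
    change (centerThompsonAOf (S : Subgroup G)).map (MulAut.conj s).toMonoidHom = _
    rw [← Replacement.centerThompsonAOf_map_equiv,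
      PGroup.map_conj_eq_of_mem_normalizer (le_normalizer hs)]
  have hWab : IsMulCommutative W := PGroup.isMulCommutative_of_forall fun a ha b hb =>
    PGroup.mul_comm_of_isMulCommutative hA₀.2.1 ((hW'.le.trans (sInf_le hA₀)) ha)
      ((hW'.le.trans (sInf_le hA₀)) hb)
  have hBB : Inv A ⁅B, B⁆ := inv_of_map_eq fun a ha => by rw [map_commutator, hBA.map_eq ha]
  obtain ⟨hBW', hclass⟩ := Replacement.derived_le_inf hBS hWS hWab hgen
    (hlt ⁅B, B⁆ inferInstance (commutator_le_self B) hBB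
      (Replacement.commutator_lt_self hB hbot))
  by_cases hall : ∀ A' ∈ 𝒜, B ≤ A'
  · rw [hW', inf_eq_left.2 (le_sInf hall)]; exact hBn
  push Not at hall
  obtain ⟨U, hU, hBU⟩ := hall
  obtain ⟨A', hA', -, hBA', hnorm⟩ := Replacement.exists_normalized_maxAb hp2 S.2
    (le_refl (S : Subgroup G)) hBS le_normalizer le_normalizer_of_normal hclass
    ⟨U, hU, (hBW'.trans hW'.le).trans (sInf_le hU), hBU⟩
  set K := (pCore p (G ⧸ centralizer (B : Set G))).comap
    (QuotientGroup.mk' (centralizer (B : Set G))) with hK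
  have hAK : A' ≤ K := fun a ha => hst B hB hBA a (hA'.1 ha)
    (Replacement.commutator_commutator_zpowers_eq_bot hA'.2.1 hnorm ha)
  exfalso
  refine hBA' ?_
  rw [← hgen]
  refine (closure_le A').2 fun x hx => ?_
  obtain ⟨z, hz, hzx⟩ := Group.mem_conjugatesOfSet_iff.1 hx
  obtain ⟨g, rfl⟩ := isConj_iff.1 hzx
  rw [SetLike.mem_coe, Subgroup.mem_inf] at hz
  obtain ⟨n, hn, c, hc, rfl⟩ := Replacement.exists_normalizer_mul_centralizer S B g
  have hcz : c * z * c⁻¹ = z := by
    rw [← mem_centralizer_iff.1 hc z hz.1, mul_inv_cancel_right]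
  have hA'' := hinv _ inf_le_left n⁻¹ (inv_mem hn) A' hA' (le_inf hA'.1 hAK)
  obtain ⟨y, hy, hyz⟩ := mem_sInf.1 (hW' ▸ hz.2) _ hA''
  have : n * c * z * (n * c)⁻¹ = y := by
    rw [show n * c * z * (n * c)⁻¹ = n * (c * z * c⁻¹) * n⁻¹ by simp [mul_assoc], hcz, ← hyz]
    simp [MulAut.conj_apply, mul_assoc]
  rw [SetLike.mem_coe, this]
  exact hy

/-- The centre of `J(S)` is normal when `O_{p'}(G) = 1` and `S` is invariant. -/
theorem centerThompsonAOf_normal (hp5 : 5 ≤ p) {A : Subgroup (MulAut G)}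
    (hA : (Nat.card A).Coprime (Nat.card G)) {C : Subgroup G}
    (hC : ∀ g : G, g ∈ C ↔ ∀ a ∈ A, a g = g) (hF : Fintype.card F = p)
    (hfix : ¬ Cfsg.Involves (Matrix.ProjectiveSpecialLinearGroup (Fin 2) F) ↥C)
    (hc : centralizer (pCore p G : Set G) ≤ pCore p G) (S : Sylow p G) (hS : Inv A S) :
    (centerThompsonAOf (S : Subgroup G)).Normal := by
  set W := centerThompsonAOf (S : Subgroup G) with hW
  have hWA : Inv A W := inv_of_map_eq fun a ha => by
    rw [hW, ← Replacement.centerThompsonAOf_map_equiv, hS.map_eq ha]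
  have hWS : W ≤ (S : Subgroup G) :=
    inf_le_left.trans (PGroup.thompsonSubgroupAOf_le _)
  have hWab : IsMulCommutative W := PGroup.isMulCommutative_of_forall fun a ha b hb =>
    mem_centralizer_iff.1 (Subgroup.mem_inf.1 hb).2 a (Subgroup.mem_inf.1 ha).1
  have hWn : (S : Subgroup G) ≤ normalizer (W : Set G) := by
    intro s hs
    refine PGroup.mem_normalizer_of_map_conj_eq ?_
    rw [hW, ← Replacement.centerThompsonAOf_map_equiv,
      PGroup.map_conj_eq_of_mem_normalizer (le_normalizer hs)]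
  have hWO : W ≤ pCore p G := by
    intro w hw
    have hq := Replacement.commutator_commutator_zpowers_eq_bot hWab
      ((PCore.pCore_le_sylow S).trans hWn) hw
    have := stable_of_not_involves hp5 hA hC hF hfix (pCore p G) PCore.isPGroup_pCore
      (inv_of_characteristic A _) hq
    rwa [PCore.comap_pCore_quotient _ (PCore.isPGroup_pCore.to_le hc)] at this
  rw [← inf_eq_right.2 hWO]
  exact inf_normal A S (fun V _ hV hVA a _ hq => stable_of_not_involves hp5 hA hC hF hfix V hV hVA hq)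
    (by omega) hW hWA _ inferInstance PCore.isPGroup_pCore (inv_of_characteristic A _)

/-- `G = O_{p'}(G) N(Z(J(S)))`. -/
theorem pPrimeCore_sup_normalizer (hp5 : 5 ≤ p) (hG : Cfsg.IsPConstrained p G) (S : Sylow p G)
    {A : Subgroup (MulAut G)} (hA : (Nat.card A).Coprime (Nat.card G)) {C : Subgroup G}
    (hC : ∀ g : G, g ∈ C ↔ ∀ a ∈ A, a g = g) (hF : Fintype.card F = p)
    (hfix : ¬ Cfsg.Involves (Matrix.ProjectiveSpecialLinearGroup (Fin 2) F) ↥C) :
    pPrimeCore p G ⊔ normalizer (centerThompsonAOf (S : Subgroup G) : Set G) = ⊤ := by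
  set N := pPrimeCore p G with hN
  have hNA : ∀ a : A, ∀ x ∈ N, A.subtype a x ∈ N := fun a x hx =>
    inv_of_characteristic A N a a.2 x hx
  set σ := Coprime.FixedProduct.quotient A.subtype N hNA with hσ
  set π := QuotientGroup.mk' N with hπ
  obtain ⟨S₀, hS₀⟩ := Coprime.exists_invariant_sylow_hom A.subtype hA (isSolvable_or hA) p
  set S' : Sylow p (G ⧸ N) := S₀.mapSurjective (QuotientGroup.mk'_surjective N) with hS'
  have hS'c : (S' : Subgroup (G ⧸ N)) = (S₀ : Subgroup G).map π := Replacement.map_sylow_quotient S₀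
  have hinvS' : Inv σ.range (S' : Subgroup (G ⧸ N)) := by
    rintro _ ⟨a, rfl⟩ x hx
    rw [hS'c] at hx ⊢
    obtain ⟨s, hs, rfl⟩ := hx
    exact ⟨_, hS₀ a s hs, rfl⟩
  have hn : (centerThompsonAOf (S' : Subgroup (G ⧸ N))).Normal := by
    refine centerThompsonAOf_normal hp5 (A := σ.range)
      ((hA.coprime_dvd_left (card_range_dvd σ)).coprime_dvd_right (card_quotient_dvd_card N))
      (C := C.map π) (fun y => ⟨?_, ?_⟩) hF ?_ (PCore.isPConstrained_iff.1 hG) S' hinvS'
    · rintro ⟨c, hc, rfl⟩ _ ⟨a, rfl⟩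
      exact congrArg π ((hC c).1 hc a a.2)
    · intro hy
      obtain ⟨k, rfl⟩ := QuotientGroup.mk'_surjective N y
      obtain ⟨c, hc, hck⟩ := exists_fixed_lift hA π
        (by rw [hπ, QuotientGroup.ker_mk']; exact inv_of_characteristic A N) (k := k)
        fun a ha => hy _ ⟨⟨a, ha⟩, rfl⟩
      exact ⟨c, (hC c).2 hc, hck⟩
    · intro h
      exact hfix (involves_of_hom π (S := C) (fun c hc => mem_map_of_mem π hc)
        (fun t ⟨c, hc, e⟩ => ⟨c, hc, e⟩) h)
  rw [hS'c, Replacement.centerThompsonAOf_map_injOn _ (Replacement.injOn_mk_pPrimeCore S₀.2)] at hn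
  refine Replacement.sup_normalizer_of_normal_map S
    (inf_le_left.trans (PGroup.thompsonSubgroupAOf_le _)) ?_
  obtain ⟨g, hg⟩ := MulAction.exists_smul_eq G S₀ S
  have hg' : (S₀ : Subgroup G).map (MulAut.conj g).toMonoidHom = (S : Subgroup G) := by
    have h := congrArg Sylow.toSubgroup hg
    rw [Sylow.coe_subgroup_smul] at h
    exact h
  rw [← hg', Replacement.centerThompsonAOf_map_equiv, map_map]
  have e : π.comp (MulAut.conj g).toMonoidHom = (MulAut.conj (π g)).toMonoidHom.comp π :=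
    MonoidHom.ext fun x => by simp
  rw [e, ← map_map, PGroup.map_conj_eq_of_mem_normalizer
    (normalizer_eq_top_iff.2 hn ▸ mem_top (π g))]
  exact hn

end Cfsg.Agent.EquivariantZJ
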